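import Cfsg.Agent.Lib.ThOut.Cent

/-!
# The hypotheses on the embedded model and the element of order three

A copy of the centraliser model on the centraliser of the image of a, and an element of order three
moving a to c as in the Thompson group.
-/

set_option autoImplicit false

namespace CfsgLib.ThType

open CfsgLib.ThOut

/-- The element h relative to the copy θ of the model. -/
structure HHyp [IsSimpleGroup Cfsg.Spor.Th] {G : Type*} [Group G] (θ : ThOut.Hs →* G) (h : G) :
    Prop where
  inj : Function.Injective θ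
  range : Subgroup.centralizer ({θ zH} : Set G) = θ.range
  cube : h ^ 3 = 1
  comm_s : Commute h (θ (hel 10))
  comm_t : Commute h (θ (hel 12))
  comm_q : Commute h (θ (hev [4, 6, 15, 6, 4, 6, 14, 6]))
  inverted : (θ (hev [6, 4, 6]) * h) ^ 2 = 1
  conj_a : h⁻¹ * θ (hev [0]) * h = θ (hev [4])
  conj_c : h⁻¹ * θ (hev [4]) * h = θ (hev [4, 0])
  conj_e : h⁻¹ * θ (hev [8]) * h = θ (hev [6, 4, 6, 15, 6, 4, 6, 14])
  conj_u : h⁻¹ * θ (hev [14]) * h = θ (hev [6, 8, 6, 4, 6, 4, 8, 6, 15])

end CfsgLib.ThType
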