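import Mathlib.Data.Nat.Notation

/-!
# Small data on the centraliser model (generated)

Words over the letters a, c, d, e, s, t, u, with the images of the nine sets under them.
-/

set_option autoImplicit false
set_option maxRecDepth 100000

namespace CfsgLib.ThType.Local

/-- Words for the permutations of the letters d, e, u. -/
def wK : List (List ℕ) :=
  [[],
    [6],
    [8],
    [14],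
    [8, 6],
    [14, 6],
    [6, 8],
    [14, 8],
    [6, 14],
    [6, 8, 6],
    [14, 8, 6],
    [6, 14, 6],
    [14, 6, 8],
    [6, 14, 8],
    [8, 6, 14],
    [14, 6, 14],
    [14, 6, 8, 6],
    [6, 14, 8, 6],
    [8, 6, 14, 6],
    [14, 6, 14, 6],
    [6, 14, 6, 8],
    [8, 6, 14, 8],
    [14, 6, 14, 8],
    [14, 8, 6, 14],
    [6, 14, 6, 14],
    [6, 14, 6, 8, 6],
    [8, 6, 14, 8, 6],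
    [14, 6, 14, 8, 6],
    [14, 8, 6, 14, 6],
    [6, 14, 6, 14, 6],
    [8, 6, 14, 6, 8],
    [14, 6, 14, 6, 8],
    [14, 8, 6, 14, 8],
    [8, 6, 14, 6, 8, 6],
    [14, 6, 14, 6, 8, 6],
    [14, 8, 6, 14, 8, 6]]

/-- Their permutations. -/
def pK : List (List ℕ) :=
  [[0, 1, 2, 3, 4, 5, 6, 7, 8],
    [1, 0, 2, 4, 3, 6, 5, 8, 7],
    [0, 2, 1, 5, 7, 3, 8, 4, 6],
    [0, 1, 2, 7, 5, 4, 6, 3, 8],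
    [2, 0, 1, 7, 5, 8, 3, 6, 4],
    [1, 0, 2, 5, 7, 6, 4, 8, 3],
    [1, 2, 0, 6, 8, 4, 7, 3, 5],
    [0, 2, 1, 4, 3, 7, 8, 5, 6],
    [1, 0, 2, 8, 6, 3, 5, 4, 7],
    [2, 1, 0, 8, 6, 7, 4, 5, 3],
    [2, 0, 1, 3, 4, 8, 7, 6, 5],
    [0, 1, 2, 6, 8, 5, 3, 7, 4],
    [1, 2, 0, 6, 8, 5, 3, 7, 4],
    [1, 2, 0, 3, 4, 8, 7, 6, 5],
    [2, 0, 1, 6, 8, 5, 3, 7, 4],
    [1, 0, 2, 8, 6, 7, 4, 5, 3],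
    [2, 1, 0, 8, 6, 3, 5, 4, 7],
    [2, 1, 0, 4, 3, 7, 8, 5, 6],
    [0, 2, 1, 8, 6, 3, 5, 4, 7],
    [0, 1, 2, 6, 8, 4, 7, 3, 5],
    [0, 2, 1, 5, 7, 6, 4, 8, 3],
    [2, 1, 0, 5, 7, 6, 4, 8, 3],
    [1, 2, 0, 7, 5, 8, 3, 6, 4],
    [2, 0, 1, 6, 8, 4, 7, 3, 5],
    [0, 1, 2, 7, 5, 8, 3, 6, 4],
    [2, 0, 1, 7, 5, 4, 6, 3, 8],
    [1, 2, 0, 7, 5, 4, 6, 3, 8],
    [2, 1, 0, 5, 7, 3, 8, 4, 6],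
    [0, 2, 1, 8, 6, 7, 4, 5, 3],
    [1, 0, 2, 5, 7, 3, 8, 4, 6],
    [0, 1, 2, 3, 4, 8, 7, 6, 5],
    [0, 2, 1, 4, 3, 6, 5, 8, 7],
    [2, 1, 0, 4, 3, 6, 5, 8, 7],
    [1, 0, 2, 4, 3, 7, 8, 5, 6],
    [2, 0, 1, 3, 4, 5, 6, 7, 8],
    [1, 2, 0, 3, 4, 5, 6, 7, 8]]

/-- Words for the even permutations commuting with that of t. -/
def wT : List (List ℕ) :=
  [[],
    [6],
    [8],
    [12],
    [8, 6],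
    [12, 6],
    [6, 8],
    [12, 8],
    [12, 12],
    [6, 8, 6],
    [12, 8, 6],
    [12, 12, 6],
    [12, 6, 8],
    [12, 12, 8],
    [14, 6, 14],
    [12, 6, 8, 6],
    [12, 12, 8, 6],
    [14, 6, 14, 6],
    [12, 12, 6, 8],
    [14, 6, 14, 8],
    [14, 6, 14, 12],
    [14, 8, 6, 14],
    [14, 12, 6, 14],
    [6, 14, 6, 14],
    [12, 12, 6, 8, 6],
    [14, 6, 14, 8, 6],
    [14, 6, 14, 12, 6],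
    [14, 8, 6, 14, 6],
    [14, 12, 6, 14, 6],
    [6, 14, 6, 14, 6],
    [14, 6, 14, 6, 8],
    [14, 6, 14, 12, 8],
    [14, 8, 6, 14, 8],
    [14, 12, 6, 14, 8],
    [14, 8, 6, 14, 12],
    [6, 14, 6, 14, 12],
    [14, 12, 8, 6, 14],
    [6, 14, 12, 6, 14],
    [14, 6, 14, 6, 8, 6],
    [14, 6, 14, 12, 8, 6],
    [14, 8, 6, 14, 8, 6],
    [14, 12, 6, 14, 8, 6],
    [14, 8, 6, 14, 12, 6],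
    [6, 14, 6, 14, 12, 6],
    [14, 12, 8, 6, 14, 6],
    [6, 14, 12, 6, 14, 6],
    [14, 6, 14, 12, 6, 8],
    [14, 12, 6, 14, 6, 8],
    [14, 8, 6, 14, 12, 8],
    [14, 12, 8, 6, 14, 8],
    [14, 6, 14, 12, 6, 8, 6],
    [14, 12, 6, 14, 6, 8, 6],
    [14, 8, 6, 14, 12, 8, 6],
    [14, 12, 8, 6, 14, 8, 6]]

/-- Their permutations. -/
def pT : List (List ℕ) :=
  [[0, 1, 2, 3, 4, 5, 6, 7, 8],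
    [1, 0, 2, 4, 3, 6, 5, 8, 7],
    [0, 2, 1, 5, 7, 3, 8, 4, 6],
    [0, 1, 2, 7, 8, 4, 3, 6, 5],
    [2, 0, 1, 7, 5, 8, 3, 6, 4],
    [1, 0, 2, 8, 7, 3, 4, 5, 6],
    [1, 2, 0, 6, 8, 4, 7, 3, 5],
    [0, 2, 1, 4, 6, 7, 5, 8, 3],
    [0, 1, 2, 6, 5, 8, 7, 3, 4],
    [2, 1, 0, 8, 6, 7, 4, 5, 3],
    [2, 0, 1, 6, 4, 5, 7, 3, 8],
    [1, 0, 2, 5, 6, 7, 8, 4, 3],
    [1, 2, 0, 3, 5, 8, 6, 7, 4],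
    [0, 2, 1, 8, 3, 6, 4, 5, 7],
    [1, 0, 2, 8, 6, 7, 4, 5, 3],
    [2, 1, 0, 5, 3, 6, 8, 4, 7],
    [2, 0, 1, 3, 8, 4, 6, 7, 5],
    [0, 1, 2, 6, 8, 4, 7, 3, 5],
    [1, 2, 0, 7, 4, 5, 3, 6, 8],
    [1, 2, 0, 7, 5, 8, 3, 6, 4],
    [1, 0, 2, 5, 3, 6, 8, 4, 7],
    [2, 0, 1, 6, 8, 4, 7, 3, 5],
    [1, 0, 2, 4, 7, 3, 5, 8, 6],
    [0, 1, 2, 7, 5, 8, 3, 6, 4],
    [2, 1, 0, 4, 7, 3, 5, 8, 6],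
    [2, 1, 0, 5, 7, 3, 8, 4, 6],
    [0, 1, 2, 3, 5, 8, 6, 7, 4],
    [0, 2, 1, 8, 6, 7, 4, 5, 3],
    [0, 1, 2, 7, 4, 5, 3, 6, 8],
    [1, 0, 2, 5, 7, 3, 8, 4, 6],
    [0, 2, 1, 4, 3, 6, 5, 8, 7],
    [1, 2, 0, 6, 4, 5, 7, 3, 8],
    [2, 1, 0, 4, 3, 6, 5, 8, 7],
    [1, 2, 0, 3, 8, 4, 6, 7, 5],
    [2, 0, 1, 3, 5, 8, 6, 7, 4],
    [0, 1, 2, 6, 4, 5, 7, 3, 8],
    [2, 0, 1, 7, 4, 5, 3, 6, 8],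
    [0, 1, 2, 3, 8, 4, 6, 7, 5],
    [2, 0, 1, 3, 4, 5, 6, 7, 8],
    [2, 1, 0, 4, 6, 7, 5, 8, 3],
    [1, 2, 0, 3, 4, 5, 6, 7, 8],
    [2, 1, 0, 8, 3, 6, 4, 5, 7],
    [0, 2, 1, 5, 3, 6, 8, 4, 7],
    [1, 0, 2, 4, 6, 7, 5, 8, 3],
    [0, 2, 1, 4, 7, 3, 5, 8, 6],
    [1, 0, 2, 8, 3, 6, 4, 5, 7],
    [0, 2, 1, 8, 7, 3, 4, 5, 6],
    [0, 2, 1, 5, 6, 7, 8, 4, 3],
    [2, 1, 0, 8, 7, 3, 4, 5, 6],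
    [2, 1, 0, 5, 6, 7, 8, 4, 3],
    [2, 0, 1, 7, 8, 4, 3, 6, 5],
    [2, 0, 1, 6, 5, 8, 7, 3, 4],
    [1, 2, 0, 7, 8, 4, 3, 6, 5],
    [1, 2, 0, 6, 5, 8, 7, 3, 4]]

/-- Words moving the class of c to nine classes. -/
def wY : List (List ℕ) :=
  [[],
    [6],
    [8, 6],
    [14, 6],
    [6, 14, 8, 6],
    [8, 6, 14, 8, 6],
    [8, 6, 14, 6],
    [6, 14, 6],
    [14, 8, 6]]

/-- The three conjugates of q commuting with c. -/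
def wU : List (List ℕ) :=
  [[4, 6, 15, 6, 4, 6, 14, 6],
    [10, 4, 6, 15, 6, 4, 6, 14, 6, 11],
    [11, 4, 6, 15, 6, 4, 6, 14, 6, 10]]

/-- Their classes. -/
def cU : List ℕ := [204, 151, 227]

end CfsgLib.ThType.Local
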