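import Cfsg.Agent.Lib.ThOut.Cent
import Cfsg.Agent.Lib.ThType.Local.Data

/-!
# Small centralisers in the centraliser model

An element of the model is determined up to Qs by the permutation of the nine sets, and inside Qs
by its class and one bit. Three such centralisers are needed for the recognition of the group.
-/

set_option autoImplicit false
set_option maxRecDepth 100000

namespace CfsgLib.ThType.Local

open CfsgLib.ThOut Equiv

attribute [local irreducible] qW conjT blocks sameM

/-- The image of a class under a word. -/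
def imgW (w : List ℕ) (v : ℕ) : ℕ := w.foldr (fun g v => imgN (gL.idxOf g) 8 v) v

/-- The values of the permutation of a word. -/
def permV (w : List ℕ) : List ℕ :=
  (List.finRange 9).map fun i => (((w.map permE).prod i : Fin 9) : ℕ)

/-- The parity form of two classes. -/
def pc (v : ℕ) : ℕ → ℕ → ℕ
  | 0, _ => 0
  | n + 1, w => pc v n w + if w.testBit n then cnt n 8 v else 0

theorem data_ok : ((wK ++ wT ++ wY).all fun w => w.all fun g => gL.contains g) = true ∧
    wK.map permV = pK ∧ wT.map permV = pT ∧ wY.contains [] = true := by decide +kernel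

theorem closed_ok : (pK.all fun p => [6, 8, 14].all fun g =>
    pK.contains (p.map fun i => (permV [g]).getD i 9)) = true ∧
    pK.contains (List.range 9) = true ∧
    ([0, 4, 6, 8, 14].all fun g => (permE g * permE g : Perm (Fin 9)) = 1) = true := by
  decide +kernel

theorem moved_ok : ((List.range 36).all fun i => pK.getD i [] == List.range 9 ||
      wY.any fun y => !(imgW (wK.getD i []) (imgW y 1) == imgW y 1)) = true ∧
    ((List.range 54).all fun i => pT.getD i [] == List.range 9 ||
      (1 :: cU).any fun v => !(imgW (wT.getD i []) v == v)) = true := by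
  decide +kernel

theorem perp_ok : ((List.range 256).all fun v => !(imgW [12] v == v) ||
      ((wY.any fun y => !(pc v 8 (imgW y 1) % 2 == 0)) || v == 0) &&
      (((1 :: cU).any fun w => !(pc v 8 w % 2 == 0)) || [0, 1, 204, 205].contains v) &&
      (!(imgW [10] v == v) || decide (v < 4))) = true := by
  decide +kernel

/-- The values of a permutation commuting with that of t, from five of them. -/
def candT (a b c p q : ℕ) : List ℕ :=
  let tt := fun i => (permV [12]).getD i 9
  [a, b, c, p, q, tt (tt q), tt (tt p), tt p, tt q]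

theorem candT_ok : ((List.range 3).all fun a => (List.range 3).all fun b => (List.range 3).all fun c =>
    (List.range' 3 6).all fun p => (List.range' 3 6).all fun q =>
      !(decide (candT a b c p q).Nodup) || pT.contains (candT a b c p q) ||
        pT.contains ((candT b a c p q))) = true := by
  decide +kernel

theorem t_fix : (∀ i : Fin 9, permE 12 i = i ↔ i.val < 3) ∧
    (∀ i : Fin 9, i.val < 3 → permE 10 i ≠ i → i = 2) ∧
    (∀ j : Fin 9, j.val < 2 ∨ ∃ k : Fin 7, (permE 10 ^ (k : ℕ)) 2 = j) ∧
    permE 10 0 = 0 ∧ permE 10 1 = 1 ∧ permE 10 2 ≠ 2 ∧ Perm.sign (swap (0 : Fin 9) 1) = -1 ∧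
    permE 12 ≠ (permE 12)⁻¹ := by
  decide +kernel

theorem eq_of_permV {σ : Perm (Fin 9)} {w : List ℕ}
    (h : (List.finRange 9).map (fun i => ((σ i : Fin 9) : ℕ)) = permV w) : σ = (w.map permE).prod := by
  refine Equiv.ext fun i => Fin.ext ?_
  have e := List.map_inj_left.1 h i (List.mem_finRange i)
  exact e

theorem permV_id {σ : Perm (Fin 9)}
    (h : (List.finRange 9).map (fun i => ((σ i : Fin 9) : ℕ)) = List.range 9) : σ = 1 :=
  eq_of_permV (w := []) (h.trans (by decide +kernel))

variable [IsSimpleGroup Cfsg.Spor.Th]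

theorem word_class : ∀ {w : List ℕ}, (∀ g ∈ w, g ∈ gL) → ∀ {v : ℕ}, v < 256 →
    bar (hev w) * eb 8 v = eb 8 (imgW w v) * bar (hev w) ∧ imgW w v < 256
  | [], _, v, hv => ⟨by rw [hev_nil, map_one, one_mul, mul_one]; rfl, hv⟩
  | g :: w, h, v, hv => by
    obtain ⟨e, hlt⟩ := word_class (fun a ha => h a (List.mem_cons_of_mem _ ha)) (w := w) hv
    have hg := h g List.mem_cons_self
    have hr : gL.idxOf g < 7 := by simpa [gL] using List.idxOf_lt_length_iff.2 hg
    have e' := conj_class hr le_rfl (imgW w v)
    rw [List.getD_eq_getElem _ _ (List.idxOf_lt_length_iff.2 hg), List.getElem_idxOf] at e'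
    refine ⟨?_, imgN_lt hr le_rfl _⟩
    rw [hev_cons, map_mul, mul_assoc, e, ← mul_assoc, e', mul_assoc]
    rfl

theorem eb_one : eb 8 1 = bar (hev [4]) := by
  rw [eb]
  exact congrArg (fun w => bar (hev w)) (by decide +kernel)

/-- An element commuting with a member of a class fixes the class of the product. -/
theorem img_fixed {w : List ℕ} (hw : ∀ g ∈ w, g ∈ gL) {x y : Hs} (hc : x * y = y * x) {v : ℕ}
    (hv : v < 256) (hy : bar y = eb 8 v) {q : Hs} (hq : q ∈ Qs) (hx : x = hev w * q) :
    imgW w v = v := by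
  obtain ⟨e, hlt⟩ := word_class hw hv
  obtain ⟨u, -, hu⟩ := hq
  refine (eb_inj hv hlt ?_).symm
  have h1 := congrArg bar hc
  rw [map_mul, map_mul, hy, hx, map_mul, hu, mul_assoc, eb_comm le_rfl, ← mul_assoc, e,
    mul_assoc] at h1
  exact (mul_right_cancel h1).symm

theorem code_split {x : Hs} {v : ℕ} (h : bar x = eb 8 v) :
    x = hev (qe (2 * v)) ∨ x = hev (qe (2 * v + 1)) := by
  have h0 : qe (2 * v) = selW 8 v := by simp [qe]
  have h1 : qe (2 * v + 1) = selW 8 v ++ [0] := by
    rw [qe, show (2 * v + 1) / 2 = v by omega]; simp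
  rcases bar_eq_one.1 (show bar ((hev (selW 8 v))⁻¹ * x) = 1 by
    rw [map_mul, map_inv, h]; exact inv_mul_cancel _) with e | e
  · exact Or.inl (by rw [h0, inv_mul_eq_one.1 e])
  · refine Or.inr ?_
    rw [inv_mul_eq_iff_eq_mul] at e
    rw [h1, hev_append, e]; simp [hev, zH]

theorem bar_qe (j : ℕ) : bar (hev (qe j)) = eb 8 (j / 2) := by
  rw [qe, hev_append, map_mul, eb]
  split_ifs
  · rw [show hev [0] = zH by simp [hev, zH], bar_zH, mul_one]
  · rw [hev_nil, map_one, mul_one]

theorem sel_sel (v : ℕ) : ∀ {n : ℕ}, n ≤ 8 → ∀ w,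
    hev (selW n w) * hev (selW 8 v) = hev (selW 8 v) * hev (selW n w) * zH ^ pc v n w
  | 0, _, w => by simp [selW, pc, hev_nil]
  | n + 1, h, w => by
    rw [selW, hev_append, pc, pow_add]
    cases w.testBit n
    · simpa [hev_nil] using sel_sel v (by omega : n ≤ 8) w
    · simp only [↓reduceIte]
      rw [mul_assoc, sel_comm (i := n) (by omega) le_rfl v, ← mul_assoc, ← mul_assoc,
        sel_sel v (by omega : n ≤ 8) w]
      have hz : ∀ k : ℕ, zH ^ k * hev (qw n) = hev (qw n) * zH ^ k := fun k =>
        (Commute.pow_left (zH_comm (hev (qw n))) k).eq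
      rw [mul_assoc (hev (selW 8 v) * hev (selW n w)) (zH ^ pc v n w), hz]
      simp only [mul_assoc]

/-- Commuting members of two classes are orthogonal. -/
theorem perp {x y : Hs} (hc : x * y = y * x) {v w : ℕ} (hx : bar x = eb 8 v) (hy : bar y = eb 8 w) :
    pc v 8 w % 2 = 0 := by
  have key : ∀ {z : Hs} {u : ℕ}, bar z = eb 8 u →
      ∃ k : ℕ, z = hev (selW 8 u) * zH ^ k := by
    intro z u hz
    rcases bar_eq_one.1 (show bar ((hev (selW 8 u))⁻¹ * z) = 1 by
      rw [map_mul, map_inv, hz]; exact inv_mul_cancel _) with e | e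
    · exact ⟨0, by rw [pow_zero, mul_one, inv_mul_eq_one.1 e]⟩
    · exact ⟨1, by rw [pow_one, ← inv_mul_eq_iff_eq_mul.1 e]⟩
  obtain ⟨i, rfl⟩ := key hx
  obtain ⟨j, rfl⟩ := key hy
  have hmov : ∀ (X Y : Hs) (a b : ℕ), X * zH ^ a * (Y * zH ^ b) = X * Y * zH ^ (a + b) := by
    intro X Y a b
    rw [mul_assoc X, ← mul_assoc (zH ^ a) Y, (Commute.pow_left (zH_comm Y) a).eq, mul_assoc Y,
      ← pow_add, ← mul_assoc]
  have h2 : zH ^ (pc v 8 w) = 1 := by
    have h := hc
    rw [hmov, hmov, sel_sel v le_rfl w, mul_assoc _ (zH ^ pc v 8 w), ← pow_add, add_comm j i,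
      pow_add zH (pc v 8 w)] at h
    exact right_eq_mul.1 (mul_left_cancel h)
  have : orderOf zH ∣ pc v 8 w := orderOf_dvd_of_pow_eq_one h2
  rw [orderOf_eq_prime (by rw [pow_two, zH_sq]) zH_ne] at this
  omega

theorem wU_class : ∀ i : Fin 3, ∃ b : ℕ, b < 2 ∧
    hev (wU.getD i []) = hev (qe (2 * cU.getD i 0 + b)) := by
  have h : ∀ i : Fin 3, okW (wU.getD i []) = true ∧
      ∃ b : Fin 2, okW (qe (2 * cU.getD i 0 + b)) = true ∧
        sameM (wU.getD i []) (qe (2 * cU.getD i 0 + b)) = true := by decide +kernel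
  intro i
  obtain ⟨h1, b, h2, h3⟩ := h i
  exact ⟨b, b.isLt, hev_eq h1 h2 h3⟩

theorem t_conj : ∀ g ∈ [0, 4, 6, 8, 14],
    hev [g, 12] = hev [12, g] ∨ hev [g, 12] = hev [13, g] := by
  have h : ∀ g ∈ [0, 4, 6, 8, 14], okW [g, 12] = true ∧ okW [12, g] = true ∧ okW [13, g] = true ∧
      (sameM [g, 12] [12, g] || sameM [g, 12] [13, g]) = true := by decide +kernel
  intro g hg
  obtain ⟨h1, h2, h3, h4⟩ := h g hg
  rcases (Bool.or_eq_true_iff.1 h4) with e | e
  exacts [Or.inl (hev_eq h1 h2 e), Or.inr (hev_eq h1 h3 e)]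

theorem t_inv : hev [13] = (hev [12])⁻¹ :=
  eq_inv_of_mul_eq_one_left (by
    rw [← hev_append]
    exact hev_eq (v := []) (by decide) rfl (by decide +kernel))

/-- The elements of the model made from a, c, d, e, u. -/
def Ks : Subgroup Hs := Subgroup.closure (hel '' {g | g ∈ [0, 4, 6, 8, 14]})

variable [Finite Cfsg.Spor.Th]

theorem commute_pi {x : Hs} {g : ℕ} (hg : g ∈ gL) (hc : x * hel g = hel g * x) (i : Fin 9) :
    pi x (permE g i) = permE g (pi x i) := by
  have h := congrArg pi hc
  rw [map_mul, map_mul, pi_eq (rep_hel hg)] at h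
  exact Perm.ext_iff.1 h i

variable (hC : Nat.card (Subgroup.centralizer ({el 0} : Set Cfsg.Spor.Th)) ≤ 92897280)
include hC

theorem mem_qs_of_pi {x : Hs} (h : pi x = 1) : x ∈ Qs :=
  (piA_eq_one hC).1 (Subtype.ext h)

/-- An element with the permutation of a word differs from it by an element of Qs. -/
theorem split_word {x : Hs} {w : List ℕ} (hw : ∀ g ∈ w, g ∈ gL) (h : pi x = (w.map permE).prod) :
    (hev w)⁻¹ * x ∈ Qs :=
  mem_qs_of_pi hC (by rw [map_mul, map_inv, pi_hev hw, h, inv_mul_cancel])

theorem qs_fixed {x : Hs} {v : ℕ} (hv : v < 256) (hx : bar x = eb 8 v) {g : ℕ} (hg : g ∈ gL)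
    (hc : x * hel g = hel g * x) : imgW [g] v = v := by
  have hc' : hev [g] * x = x * hev [g] := by simpa [hev] using hc.symm
  exact img_fixed (w := [g]) (by simpa using hg) hc' hv hx (one_mem Qs) (mul_one _).symm

/-- The centraliser of s and t. -/
theorem fixed_st {x : Hs} (hs : x * hel 10 = hel 10 * x) (ht : x * hel 12 = hel 12 * x) :
    ∃ j < 8, x = hev (qe j) := by
  obtain ⟨f1, f2, f3, f4, f5, f6, f7, -⟩ := t_fix
  set σ := pi x with hσ
  have cs := commute_pi (x := x) (g := 10) (by decide) hs
  have ct := commute_pi (x := x) (g := 12) (by decide) ht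
  have hlt : (σ 2).val < 3 := (f1 _).1 (by rw [← ct, (f1 2).2 (by decide)])
  have h2 : σ 2 = 2 := f2 _ hlt fun h => f6 (σ.injective (by rw [cs, h]))
  have hpow : ∀ (k : ℕ), σ ((permE 10 ^ k) 2) = (permE 10 ^ k) 2 := by
    intro k
    induction k with
    | zero => simpa using h2
    | succ k ih => rw [pow_succ', Perm.mul_apply, cs, ih]
  have hfix : ∀ j : Fin 9, 2 ≤ j.val → σ j = j := by
    intro j hj
    rcases f3 j with h | ⟨k, rfl⟩
    · omega
    · exact hpow k
  have hlow : ∀ j : Fin 9, j.val < 2 → (σ j).val < 2 := by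
    intro j hj
    by_contra h
    have := σ.injective (hfix (σ j) (by omega))
    omega
  have hσ1 : σ = 1 := by
    have hcases : σ = 1 ∨ σ = swap 0 1 := by
      rcases Nat.lt_or_ge (σ 0).val 1 with h | h
      · left
        ext j
        by_cases hj : 2 ≤ j.val
        · rw [hfix j hj]; rfl
        · have h0 : σ 0 = 0 := Fin.ext (by show (σ 0).val = 0; omega)
          have h1 : σ 1 = 1 := by
            have := hlow 1 (by decide)
            have hne : σ 1 ≠ σ 0 := fun e => absurd (σ.injective e) (by decide)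
            refine Fin.ext ?_
            rw [h0, ← Fin.val_ne_iff] at hne
            simp at hne ⊢; omega
          interval_cases hjv : j.val
          · rw [show j = 0 from Fin.ext hjv, h0]; rfl
          · rw [show j = 1 from Fin.ext hjv, h1]; rfl
      · right
        have h0 : σ 0 = 1 := Fin.ext (by have := hlow 0 (by decide); simp at this ⊢; omega)
        have h1 : σ 1 = 0 := by
          have := hlow 1 (by decide)
          have hne : σ 1 ≠ σ 0 := fun e => absurd (σ.injective e) (by decide)
          refine Fin.ext ?_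
          rw [h0, ← Fin.val_ne_iff] at hne
          simp at hne ⊢; omega
        refine Equiv.ext fun j => ?_
        by_cases hj : 2 ≤ j.val
        · rw [hfix j hj, swap_apply_of_ne_of_ne] <;> intro e <;> rw [e] at hj <;> simp at hj
        · interval_cases hjv : j.val
          · rw [show j = 0 from Fin.ext hjv, h0, swap_apply_left]
          · rw [show j = 1 from Fin.ext hjv, h1, swap_apply_right]
    refine hcases.resolve_right fun e => ?_
    have := Perm.mem_alternatingGroup.1 (pi_mem x)
    rw [← hσ, e, f7] at this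
    exact absurd this (by decide)
  obtain ⟨v, hv, hb⟩ := mem_qs_of_pi hC (x := x) hσ1
  have h10 := qs_fixed hC hv hb (g := 10) (by decide) hs
  have h12 := qs_fixed hC hv hb (g := 12) (by decide) ht
  have := List.all_eq_true.1 perp_ok v (List.mem_range.2 hv)
  simp [h10, h12] at this
  rcases code_split hb with e | e
  exacts [⟨2 * v, by omega, e⟩, ⟨2 * v + 1, by omega, e⟩]

/-- The centraliser of t, c and the three conjugates of q. -/
theorem fixed_u {x : Hs} (ht : x * hel 12 = hel 12 * x) (hc : x * hev [4] = hev [4] * x)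
    (hu : ∀ i : Fin 3, x * hev (wU.getD i []) = hev (wU.getD i []) * x) :
    ∃ j ∈ [0, 1, 2, 3, 408, 409, 410, 411], x = hev (qe j) := by
  obtain ⟨f1, -, -, -, -, -, f7, -⟩ := t_fix
  set σ := pi x with hσ
  have ct := commute_pi (x := x) (g := 12) (by decide) ht
  have hcl : ∀ v ∈ 1 :: cU, ∃ y : Hs, bar y = eb 8 v ∧ x * y = y * x ∧ v < 256 := by
    intro v hv
    rcases List.mem_cons.1 hv with rfl | hv
    · exact ⟨hev [4], eb_one.symm, hc, by norm_num⟩
    · obtain ⟨i, hi, rfl⟩ := List.getElem_of_mem hv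
      obtain ⟨b, hb, e⟩ := wU_class ⟨i, hi⟩
      refine ⟨_, ?_, hu ⟨i, hi⟩, (by decide : ∀ v ∈ cU, v < 256) _ (List.getElem_mem hi)⟩
      rw [e, bar_qe, List.getD_eq_getElem _ _ hi]
      congr 1; omega
  -- the permutation
  have hlow : ∀ i : Fin 9, i.val < 3 → (σ i).val < 3 := fun i hi =>
    (f1 _).1 (by rw [← ct, (f1 i).2 hi])
  have hhigh : ∀ i : Fin 9, ¬ i.val < 3 → ¬ (σ i).val < 3 := fun i hi h =>
    hi ((f1 i).1 (σ.injective (by rw [ct, (f1 _).2 h])))
  have hval : ∀ i : Fin 9, (permV [12]).getD i.val 9 = (permE 12 i).val := by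
    intro i
    rw [permV, List.getD_eq_getElem _ _ (by simp)]
    simp
  have hcand : (List.finRange 9).map (fun i => ((σ i : Fin 9) : ℕ)) =
      candT (σ 0).val (σ 1).val (σ 2).val (σ 3).val (σ 4).val := by
    have ct' : ∀ i, permE 12 (σ i) = σ (permE 12 i) := fun i => (ct i).symm
    simp only [candT, hval, ct']
    rw [show List.finRange 9 = [0, 1, 2, 3, 4, 5, 6, 7, 8] from rfl]
    simp only [List.map_cons, List.map_nil,
      show permE 12 8 = 5 by decide +kernel, show permE 12 7 = 6 by decide +kernel,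
      show permE 12 3 = 7 by decide +kernel, show permE 12 4 = 8 by decide +kernel]
  have hnd : (candT (σ 0).val (σ 1).val (σ 2).val (σ 3).val (σ 4).val).Nodup := by
    rw [← hcand]
    exact (List.nodup_finRange 9).map fun i j e => σ.injective (Fin.ext e)
  have h9 := candT_ok
  simp only [List.all_eq_true, List.mem_range, List.mem_range'_1] at h9
  have h := h9 _ (hlow 0 (by decide)) _ (hlow 1 (by decide)) _ (hlow 2 (by decide)) (σ 3).val
    ⟨by have := hhigh 3 (by decide); omega, by omega⟩ (σ 4).val
    ⟨by have := hhigh 4 (by decide); omega, by omega⟩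
  simp only [Bool.or_eq_true, Bool.not_eq_true', decide_eq_false_iff_not, List.contains_iff_mem,
    or_assoc] at h
  obtain ⟨i, hi, ep⟩ : ∃ i, i < 54 ∧ σ = ((wT.getD i []).map permE).prod := by
    rcases h with h | h | h
    · exact absurd hnd h
    · obtain ⟨i, hi, e⟩ := List.getElem_of_mem h
      have hi' : i < wT.length := by rw [← List.length_map (f := permV), data_ok.2.2.1]; exact hi
      refine ⟨i, hi, eq_of_permV ?_⟩
      simp only [← data_ok.2.2.1, List.getElem_map] at e
      rw [hcand, ← e, List.getD_eq_getElem _ _ hi']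
    · exfalso
      obtain ⟨i, hi, e⟩ := List.getElem_of_mem h
      simp only [← data_ok.2.2.1, List.getElem_map] at e
      have hi' : i < wT.length := by rw [← List.length_map (f := permV), data_ok.2.2.1]; exact hi
      have hmul : σ * swap 0 1 = ((wT[i]'hi').map permE).prod := by
        refine eq_of_permV (e ▸ ?_)
        simp only [candT] at hcand ⊢
        rw [show List.finRange 9 = [0, 1, 2, 3, 4, 5, 6, 7, 8] from rfl] at hcand ⊢
        simp only [List.map_cons, List.map_nil, List.cons.injEq] at hcand ⊢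
        simp [swap_apply_def, hcand]
      have hev' : ((wT[i]'hi').map permE).prod ∈ alternatingGroup (Fin 9) := by
        rw [← pi_hev]
        · exact pi_mem _
        · have := data_ok.1
          simp only [List.all_eq_true, List.contains_iff_mem, List.mem_append] at this
          exact this _ (Or.inl (Or.inr (List.getElem_mem hi')))
      rw [← hmul, Perm.mem_alternatingGroup, map_mul, Perm.mem_alternatingGroup.1 (pi_mem x), f7]
        at hev'
      exact absurd hev' (by decide)
  have hw : ∀ g ∈ wT.getD i [], g ∈ gL := by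
    have := data_ok.1
    simp only [List.all_eq_true, List.contains_iff_mem, List.mem_append] at this
    intro g hg
    rcases Nat.lt_or_ge i wT.length with hlt | hge
    · rw [List.getD_eq_getElem _ _ hlt] at hg
      exact this _ (Or.inl (Or.inr (List.getElem_mem hlt))) g hg
    · rw [List.getD_eq_default _ _ hge] at hg; simp at hg
  have hq := split_word hC (x := x) hw ep
  have hfixed : ∀ v ∈ 1 :: cU, imgW (wT.getD i []) v = v := fun v hv => by
    obtain ⟨y, hy, hcy, hv'⟩ := hcl v hv
    exact img_fixed hw hcy hv' hy hq (mul_inv_cancel_left _ _).symm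
  have hσ1 : σ = 1 := by
    have := List.all_eq_true.1 moved_ok.2 i (List.mem_range.2 hi)
    simp only [Bool.or_eq_true, beq_iff_eq, List.any_eq_true, Bool.not_eq_true',
      beq_eq_false_iff_ne] at this
    rcases this with e | ⟨v, hv, e⟩
    · refine permV_id ?_
      have hi' : i < wT.length := by
        rw [← List.length_map (f := permV), data_ok.2.2.1]; exact hi
      rw [← e, ← data_ok.2.2.1, List.getD_eq_getElem _ _ (by simpa using hi'), List.getElem_map,
        ep, List.getD_eq_getElem _ _ hi']
      rfl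
    · exact absurd (hfixed v hv) e
  obtain ⟨v, hv, hb⟩ := mem_qs_of_pi hC (x := x) hσ1
  have h12 := qs_fixed hC hv hb (g := 12) (by decide) ht
  have hp := List.all_eq_true.1 perp_ok v (List.mem_range.2 hv)
  have hperp : ∀ w ∈ 1 :: cU, pc v 8 w % 2 = 0 := fun w hw => by
    obtain ⟨y, hy, hcy, -⟩ := hcl w hw
    exact perp hcy hb hy
  simp only [h12, beq_self_eq_true, Bool.not_true, Bool.false_or, Bool.and_eq_true,
    Bool.or_eq_true, List.any_eq_true, Bool.not_eq_true', beq_eq_false_iff_ne,
    List.contains_iff_mem] at hp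
  have hv4 : v ∈ [0, 1, 204, 205] := by
    rcases hp.1.2 with ⟨w, hw, e⟩ | h
    · exact absurd (hperp w hw) e
    · exact h
  simp only [List.mem_cons, List.not_mem_nil, or_false] at hv4
  rcases code_split hb with e | e <;> refine ⟨_, ?_, e⟩ <;> rcases hv4 with rfl | rfl | rfl | rfl <;>
    decide

theorem pi_ks {x : Hs} (hx : x ∈ Ks) :
    (List.finRange 9).map (fun i => ((pi x i : Fin 9) : ℕ)) ∈ pK := by
  obtain ⟨hc1, hc2, hc3⟩ := closed_ok
  have step : ∀ g ∈ [0, 4, 6, 8, 14], ∀ σ : Perm (Fin 9),
      (List.finRange 9).map (fun i => ((σ i : Fin 9) : ℕ)) ∈ pK →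
      (List.finRange 9).map (fun i => (((permE g * σ) i : Fin 9) : ℕ)) ∈ pK := by
    intro g hg σ hσ
    simp only [List.mem_cons, List.not_mem_nil, or_false] at hg
    by_cases h68 : g ∈ [6, 8, 14]
    · have := List.all_eq_true.1 (List.all_eq_true.1 hc1 _ hσ) g h68
      simp only [List.contains_iff_mem, List.map_map] at this
      convert this using 2
      funext i
      simp [permV, List.getD_eq_getElem]
    · rcases hg with rfl | rfl | rfl | rfl | rfl
      all_goals first
        | (simp at h68; done)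
        | (rw [show permE _ = (1 : Perm (Fin 9)) from rfl, one_mul]; exact hσ)
  have hsq : ∀ g ∈ [0, 4, 6, 8, 14], (permE g)⁻¹ = permE g := fun g hg =>
    inv_eq_of_mul_eq_one_right (by simpa using List.all_eq_true.1 hc3 g hg)
  have hsub : ∀ g ∈ [0, 4, 6, 8, 14], g ∈ gL := by decide
  induction hx using Subgroup.closure_induction_left with
  | one =>
    rw [map_one]
    have := List.contains_iff_mem.1 hc2
    convert this using 1
    decide +kernel
  | mul_left y hy z hz ih =>
    obtain ⟨g, hg, rfl⟩ := hy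
    rw [map_mul, pi_eq (rep_hel (hsub g hg))]
    exact step g hg _ ih
  | inv_mul_cancel y hy z hz ih =>
    obtain ⟨g, hg, rfl⟩ := hy
    rw [map_mul, map_inv, pi_eq (rep_hel (hsub g hg)), hsq g hg]
    exact step g hg _ ih

theorem ks_normalizes {x : Hs} (hx : x ∈ Ks) :
    x * hev [12] * x⁻¹ = hev [12] ∨ x * hev [12] * x⁻¹ = (hev [12])⁻¹ := by
  induction hx using Subgroup.closure_induction with
  | mem y hy =>
    obtain ⟨g, hg, rfl⟩ := hy
    have hcat : ∀ a b : ℕ, hev [a, b] = hel a * hel b := fun a b => by simp [hev]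
    rcases t_conj g hg with e | e <;> rw [hcat, hcat] at e
    · left
      rw [show hev [12] = hel 12 by simp [hev], e, mul_inv_cancel_right]
    · right
      rw [← t_inv, show hev [12] = hel 12 by simp [hev], e, mul_inv_cancel_right,
        show hev [13] = hel 13 by simp [hev]]
  | one => left; simp
  | mul y z hy hz h1 h2 =>
    have : y * z * hev [12] * (y * z)⁻¹ = y * (z * hev [12] * z⁻¹) * y⁻¹ := by group
    rw [this]
    rcases h2 with e | e <;> rw [e]
    · exact h1
    · rw [show y * (hev [12])⁻¹ * y⁻¹ = (y * hev [12] * y⁻¹)⁻¹ by group]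
      rcases h1 with e1 | e1 <;> simp [e1]
  | inv y hy h =>
    rcases h with e | e
    · left
      conv_lhs => rw [← e]
      group
    · right
      have e' : y * (hev [12])⁻¹ * y⁻¹ = hev [12] := by
        rw [show y * (hev [12])⁻¹ * y⁻¹ = (y * hev [12] * y⁻¹)⁻¹ by group, e, inv_inv]
      conv_lhs => rw [← e']
      group

/-- Only a and the identity of the subgroup centralise the conjugates of c. -/
theorem small_ks {x : Hs} (hx : x ∈ Ks)
    (hc : ∀ y ∈ wY, x * (hev y * hev [4] * (hev y)⁻¹) = (hev y * hev [4] * (hev y)⁻¹) * x) :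
    x = 1 ∨ x = zH := by
  have hwk : ∀ w ∈ wK ++ wT ++ wY, ∀ g ∈ w, g ∈ gL := by
    have := data_ok.1
    simpa only [List.all_eq_true, List.contains_iff_mem] using this
  have hcl : ∀ y ∈ wY, bar (hev y * hev [4] * (hev y)⁻¹) = eb 8 (imgW y 1) ∧ imgW y 1 < 256 := by
    intro y hy
    obtain ⟨e, hlt⟩ := word_class (hwk y (by simp [hy])) (v := 1) (by norm_num)
    refine ⟨?_, hlt⟩
    rw [map_mul, map_mul, map_inv, ← eb_one, e, mul_inv_cancel_right]
  obtain ⟨i, hi, e⟩ := List.getElem_of_mem (pi_ks hC hx)
  simp only [← data_ok.2.1, List.getElem_map] at e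
  have hi' : i < wK.length := by rw [← List.length_map (f := permV), data_ok.2.1]; exact hi
  have hw := hwk (wK[i]'hi') (by simp [List.getElem_mem])
  have ep : pi x = ((wK[i]'hi').map permE).prod := eq_of_permV e.symm
  have hq := split_word hC hw ep
  have hp1 : pi x = 1 := by
    have := List.all_eq_true.1 moved_ok.1 i (List.mem_range.2 hi)
    simp only [Bool.or_eq_true, beq_iff_eq, List.any_eq_true, Bool.not_eq_true',
      beq_eq_false_iff_ne, List.getD_eq_getElem _ _ hi'] at this
    rcases this with e' | ⟨y, hy, e'⟩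
    · refine permV_id ?_
      rw [← e', ← data_ok.2.1, List.getD_eq_getElem _ _ (by simpa using hi'), List.getElem_map]
      exact e.symm
    · exact absurd (img_fixed hw (hc y hy) (hcl y hy).2 (hcl y hy).1 hq
        (mul_inv_cancel_left _ _).symm) e'
  obtain ⟨v, hv, hb⟩ := mem_qs_of_pi hC hp1
  have ht : x * hel 12 = hel 12 * x := by
    have h12 : hev [12] = hel 12 := by simp [hev]
    rcases ks_normalizes hC hx with e | e <;> rw [h12] at e
    · calc x * hel 12 = x * hel 12 * x⁻¹ * x := by group
        _ = _ := by rw [e]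
    · exfalso
      have := congrArg pi e
      rw [map_mul, map_mul, map_inv, map_inv, hp1, pi_eq (rep_hel (by decide)), one_mul, inv_one,
        mul_one] at this
      exact t_fix.2.2.2.2.2.2.2 this
  have h12 := qs_fixed hC hv hb (g := 12) (by decide) ht
  have hp := List.all_eq_true.1 perp_ok v (List.mem_range.2 hv)
  simp only [h12, beq_self_eq_true, Bool.not_true, Bool.false_or, Bool.and_eq_true,
    Bool.or_eq_true, List.any_eq_true, Bool.not_eq_true', beq_eq_false_iff_ne,
    beq_iff_eq] at hp
  rcases hp.1.1 with ⟨y, hy, e'⟩ | rfl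
  · exact absurd (perp (hc y hy) hb (hcl y hy).1) e'
  · rw [eb_zero] at hb
    exact bar_eq_one.1 hb

end CfsgLib.ThType.Local
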