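import Cfsg.Agent.Lib.ThType.Cert.CollapseCheck
import Cfsg.Agent.Lib.ThType.DihOrders
import Cfsg.Agent.Lib.ThType.Local.Hyp
import Cfsg.Agent.Lib.ThType.Local.Model

/-!
# The eight letters in the ambient group

The letters satisfy the common relators, and the product of h and its conjugate under d lies in a
perfect group with dihedral centraliser of a, which leaves only the order three.
-/

set_option autoImplicit false
set_option maxRecDepth 100000
set_option linter.unusedSectionVars false

namespace CfsgLib.ThType.Local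

open CfsgLib.ThOut CfsgLib.ThType.Cert Subgroup

attribute [local irreducible] qW conjT blocks sameM

/-- The model letters of the first six letters. -/
def back (g : ℕ) : ℕ := [0, 4, 6, 8, 14, 15].getD g 0

/-- The eight elements. -/
noncomputable def letX {G : Type*} [Group G] (θ : ThOut.Hs →* G) (h : G) : ℕ → G
  | 6 => h
  | 7 => h⁻¹
  | g => θ (hev [back g])

/-- The relators without h hold in the model. -/
noncomputable def backOk (w : List ℕ) : Bool := okW (w.map back) && sameM (w.map back) []

theorem rel0 : backOk [0, 3, 0, 3] = true := by decide +kernel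
theorem rel1 : backOk [0, 2, 1, 2, 1, 2, 1, 2, 1] = true := by decide +kernel
theorem rel2 : backOk [1, 3, 1, 3] = true := by decide +kernel
theorem rel3 : backOk [2, 3, 2, 3, 2, 3] = true := by decide +kernel
theorem rel4 : backOk [4, 4, 1, 0] = true := by decide +kernel
theorem rel5 : backOk [5, 0, 4, 0] = true := by decide +kernel
theorem rel6 : backOk [5, 1, 4, 1] = true := by decide +kernel
theorem rel7 : backOk [5, 3, 4, 3] = true := by decide +kernel
theorem rel8 : backOk [2, 3, 5, 2, 4, 2, 3, 5, 2, 4] = true := by decide +kernel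
theorem rel16 : backOk [0, 0] = true := by decide +kernel
theorem rel17 : backOk [1, 1] = true := by decide +kernel
theorem rel18 : backOk [2, 2] = true := by decide +kernel
theorem rel19 : backOk [3, 3] = true := by decide +kernel

theorem u_inv : sameM [14, 15] [] = true := by decide +kernel
theorem q_inv : sameM [6, 4, 6, 15, 6, 4, 6, 14, 15, 6, 4, 6, 14, 6, 4, 6] [] = true := by
  decide +kernel
theorem qu_inv : sameM [6, 8, 6, 4, 6, 4, 8, 6, 15, 14, 6, 8, 4, 6, 4, 6, 8, 6] [] = true := by
  decide +kernel
theorem qd_conj : sameM [4, 6, 15, 6, 4, 6, 14, 6] [6, 6, 4, 6, 15, 6, 4, 6, 14, 6] = true := by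
  decide +kernel
theorem d_flip : sameM [6, 10] [11, 6] = true := by decide +kernel
theorem d_t : sameM [6, 12] [12, 6] = true := by decide +kernel
theorem cf_sq : sameM [4, 6, 4, 6, 4, 6, 4, 6] [0] = true := by decide +kernel
theorem c_s : sameM [4, 10] [10, 4] = true := by decide +kernel
theorem c_t : sameM [4, 12] [12, 4] = true := by decide +kernel
theorem f_s : sameM [6, 4, 6, 10] [10, 6, 4, 6] = true := by decide +kernel
theorem f_t : sameM [6, 4, 6, 12] [12, 6, 4, 6] = true := by decide +kernel
theorem s_inv : sameM [10, 11] [] = true := by decide +kernel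

section

variable [IsSimpleGroup Cfsg.Spor.Th] {G : Type*} [Group G] {θ : ThOut.Hs →* G} {h : G}

theorem letX_low {g : ℕ} (hg : g < 6) : letX θ h g = θ (hev [back g]) := by
  interval_cases g <;> rfl

theorem wval_low : ∀ {w : List ℕ}, (∀ g ∈ w, g < 6) →
    wval (letX θ h) w = θ (hev (w.map back))
  | [], _ => by simp [wval, hev_nil]
  | g :: w, hw => by
    rw [List.map_cons, show back g :: w.map back = [back g] ++ w.map back from rfl, hev_append,
      map_mul, ← wval_low fun a ha => hw a (List.mem_cons_of_mem _ ha),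
      ← letX_low (θ := θ) (h := h) (hw g List.mem_cons_self)]
    simp [wval]

theorem hev_one {u : List ℕ} (h1 : okW u = true) (h2 : sameM u [] = true) : hev u = 1 :=
  hev_eq h1 rfl h2

theorem wval_back {w : List ℕ} (hw : ∀ g ∈ w, g < 6) (hok : backOk w = true) :
    wval (letX θ h) w = 1 := by
  simp only [backOk, Bool.and_eq_true] at hok
  rw [wval_low hw, hev_one hok.1 hok.2, map_one]

end

section

variable [IsSimpleGroup Cfsg.Spor.Th] {G : Type*} [Group G] {θ : ThOut.Hs →* G} {h : G}
  (H : HHyp θ h)
include H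

theorem theta_inv {u v : List ℕ} (h1 : okW (u ++ v) = true) (h2 : sameM (u ++ v) [] = true) :
    θ (hev v) = (θ (hev u))⁻¹ :=
  eq_inv_of_mul_eq_one_right (by rw [← map_mul, ← hev_append, hev_one h1 h2, map_one])

theorem commute_model {u v : List ℕ} (h1 : okW (u ++ v) = true) (h2 : okW (v ++ u) = true)
    (h3 : sameM (u ++ v) (v ++ u) = true) : Commute (θ (hev u)) (θ (hev v)) := by
  show _ * _ = _ * _
  rw [← map_mul, ← map_mul, ← hev_append, ← hev_append, hev_eq h1 h2 h3]

theorem letters_inv : ∀ g, g < 8 → letX θ h (ivL g) = (letX θ h g)⁻¹ := by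
  intro g hg
  have hsq : ∀ {u : List ℕ}, okW (u ++ u) = true → sameM (u ++ u) [] = true →
      θ (hev u) = (θ (hev u))⁻¹ := fun h1 h2 => theta_inv H h1 h2
  interval_cases g
  · exact hsq (by decide) (Bool.and_eq_true_iff.1 rel16).2
  · exact hsq (by decide) (Bool.and_eq_true_iff.1 rel17).2
  · exact hsq (by decide) (Bool.and_eq_true_iff.1 rel18).2
  · exact hsq (by decide) (Bool.and_eq_true_iff.1 rel19).2
  · exact theta_inv H (u := [14]) (v := [15]) (by decide) u_inv
  · show θ (hev [14]) = (θ (hev [15]))⁻¹
    rw [theta_inv H (u := [14]) (v := [15]) (by decide) u_inv, inv_inv]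
  · rfl
  · exact (inv_inv h).symm

theorem common_rel : ∀ w ∈ commonRels, wval (letX θ h) w = 1 := by
  have hi : ∀ g, g < 8 → letX θ h (ivL g) = (letX θ h g)⁻¹ := letters_inv H
  have h7 : letX θ h 7 = h⁻¹ := rfl
  have h6 : letX θ h 6 = h := rfl
  intro w hw
  simp only [commonRels, List.mem_cons, List.not_mem_nil, or_false] at hw
  rcases hw with rfl | rfl | rfl | rfl | rfl | rfl | rfl | rfl | rfl | rfl | rfl | rfl | rfl | rfl |
    rfl | rfl | rfl | rfl | rfl | rfl
  · exact wval_back (by decide) rel0
  · exact wval_back (by decide) rel1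
  · exact wval_back (by decide) rel2
  · exact wval_back (by decide) rel3
  · exact wval_back (by decide) rel4
  · exact wval_back (by decide) rel5
  · exact wval_back (by decide) rel6
  · exact wval_back (by decide) rel7
  · exact wval_back (by decide) rel8
  · simpa [wval, h6, pow_succ, mul_assoc] using H.cube
  · have e : θ (hev [0]) * h = h * θ (hev [4]) := by rw [← H.conj_a]; group
    have hcc : θ (hev [4]) * θ (hev [4]) = 1 := by
      simpa [wval, letX, back] using wval_back (θ := θ) (h := h) (by decide) rel17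
    show h⁻¹ * (θ (hev [0]) * (h * (θ (hev [4]) * 1))) = 1
    rw [mul_one, ← mul_assoc (θ _) h, e, mul_assoc, hcc, mul_one, inv_mul_cancel]
  · have e : θ (hev [4]) * h = h * θ (hev [4, 0]) := by rw [← H.conj_c]; group
    have hcc : θ (hev [4, 0]) * (θ (hev [0]) * θ (hev [4])) = 1 := by
      rw [← map_mul, ← map_mul, ← hev_append, ← hev_append,
        hev_one (by decide) (by decide +kernel), map_one]
    show h⁻¹ * (θ (hev [4]) * (h * (θ (hev [0]) * (θ (hev [4]) * 1)))) = 1
    rw [mul_one, ← mul_assoc (θ _) h, e, mul_assoc, hcc, mul_one, inv_mul_cancel]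
  · have e : wval (letX θ h) [5, 2, 1, 2, 4, 2, 1, 2] = (θ (hev [6, 4, 6, 15, 6, 4, 6, 14]))⁻¹ := by
      rw [wval_low (by decide)]
      exact theta_inv H (by decide) q_inv
    rw [show wval (letX θ h) [7, 3, 6, 5, 2, 1, 2, 4, 2, 1, 2] =
      h⁻¹ * θ (hev [8]) * h * wval (letX θ h) [5, 2, 1, 2, 4, 2, 1, 2] by
        simp [wval, h6, h7, letX_low, back, mul_assoc], e, H.conj_e, mul_inv_cancel]
  · have e : wval (letX θ h) [4, 2, 3, 1, 2, 1, 2, 3, 2] =
        (θ (hev [6, 8, 6, 4, 6, 4, 8, 6, 15]))⁻¹ := by
      rw [wval_low (by decide)]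
      exact theta_inv H (by decide) qu_inv
    rw [show wval (letX θ h) [7, 4, 6, 4, 2, 3, 1, 2, 1, 2, 3, 2] =
      h⁻¹ * θ (hev [14]) * h * wval (letX θ h) [4, 2, 3, 1, 2, 1, 2, 3, 2] by
        simp [wval, h6, h7, letX_low, back, mul_assoc], e, H.conj_u, mul_inv_cancel]
  · set d := θ (hev [6]) with hd
    set q := θ (hev [6, 4, 6, 15, 6, 4, 6, 14]) with hq
    have hdd : d * d = 1 := by
      rw [hd, ← map_mul, ← hev_append, hev_one (by decide) (by decide +kernel), map_one]
    have hd' : d⁻¹ = d := inv_eq_of_mul_eq_one_right hdd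
    have hee : θ (hev [8]) * θ (hev [8]) = 1 := by
      simpa [wval, letX, back] using wval_back (θ := θ) (h := h) (by decide) rel19
    have hqd : θ (hev [4, 6, 15, 6, 4, 6, 14, 6]) = d * q * d := by
      rw [hd, hq, ← map_mul, ← map_mul, ← hev_append, ← hev_append,
        hev_eq (by decide) (by decide) qd_conj]
      rfl
    have hk : Commute (d * h * d) q := by
      have := H.comm_q
      rw [hqd] at this
      have h2 := congrArg (fun y => d * y * d) this.eq
      show d * h * d * q = q * (d * h * d)
      calc d * h * d * q = d * h * d * q * (d * d) := by rw [hdd, mul_one]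
        _ = d * (h * (d * q * d)) * d := by group
        _ = d * ((d * q * d) * h) * d := by rw [this.eq]
        _ = (d * d) * q * (d * h * d) := by group
        _ = _ := by rw [hdd, one_mul]
    have he : θ (hev [8]) = h * q * h⁻¹ := by rw [hq, ← H.conj_e]; group
    show h * (d * (h⁻¹ * (d * (h⁻¹ * (θ (hev [8]) * (h * (d * (h * (d * (h⁻¹ * (θ (hev [8]) * 1))))))))))) = 1
    have hki : (d * h * d)⁻¹ * q * (d * h * d) = q := by
      rw [mul_assoc, ← hk.eq, inv_mul_cancel_left]
    calc h * (d * (h⁻¹ * (d * (h⁻¹ * (θ (hev [8]) * (h * (d * (h * (d * (h⁻¹ * (θ (hev [8]) * 1)))))))))))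
        = h * ((d * h * d⁻¹)⁻¹ * (h⁻¹ * θ (hev [8]) * h) * (d * h * d)) * h⁻¹ * θ (hev [8]) := by
          rw [mul_inv_rev, mul_inv_rev, inv_inv, hd']; group
      _ = h * q * h⁻¹ * θ (hev [8]) := by rw [hd', H.conj_e, hki]
      _ = 1 := by rw [← he, hee]
  · have := H.inverted
    simpa [wval, h6, letX_low, back, pow_succ, mul_assoc, hev] using this
  · exact wval_back (by decide) rel16
  · exact wval_back (by decide) rel17
  · exact wval_back (by decide) rel18
  · exact wval_back (by decide) rel19

variable [Finite Cfsg.Spor.Th]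
  (hC : Nat.card (Subgroup.centralizer ({el 0} : Set Cfsg.Spor.Th)) ≤ 92897280)
include hC

theorem c_ne : hev [4] ≠ 1 ∧ hev [4] ≠ zH := by
  have key : bar (hev [4]) ≠ 1 := by
    intro e
    rw [← eb_one, ← eb_zero (n := 8)] at e
    exact absurd (eb_inj (by norm_num) (by norm_num) e) (by norm_num)
  exact ⟨fun e => key (by rw [e, map_one]), fun e => key (by rw [e, bar_zH])⟩

theorem setup : Setup (letX θ h) := by
  have hz : hev [0] = zH := by simp [hev, zH]
  refine ⟨letters_inv H, common_rel H, fun e => (c_ne H hC).1 (H.inj ?_), fun e => ?_, fun g hg => ?_,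
    fun g hg hy => ?_⟩
  · rw [map_one]; exact e
  · exact (c_ne H hC).2 (H.inj (e.symm.trans (by rw [← hz]; rfl)))
  · show _ * θ (hev [0]) = θ (hev [0]) * _
    rw [letX_low (by omega), ← map_mul, ← map_mul, hz, zH_comm]
  · have hle : kSub (letX θ h) ≤ Ks.map θ := (closure_le _).2 (by
      rintro _ ⟨i, rfl⟩
      refine ⟨hev [back i], subset_closure ⟨back i, ?_, by simp [hev]⟩, ?_⟩
      · have := i.2
        generalize (i : ℕ) = k at this
        interval_cases k <;> simp [back]
      · exact (letX_low (Nat.lt_of_lt_of_le i.2 (by norm_num))).symm)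
    have hmem : ∀ w : List ℕ, (∀ a ∈ w, a ∈ [6, 8, 14]) → θ (hev w) ∈ kSub (letX θ h) := by
      intro w
      induction w with
      | nil => intro _; rw [hev_nil, map_one]; exact one_mem _
      | cons a w ih =>
        intro hw
        rw [← List.singleton_append, hev_append, map_mul]
        refine mul_mem ?_ (ih fun b hb => hw b (List.mem_cons_of_mem _ hb))
        have ha := hw a List.mem_cons_self
        simp only [List.mem_cons, List.not_mem_nil, or_false] at ha
        rcases ha with rfl | rfl | rfl
        exacts [subset_closure ⟨2, rfl⟩, subset_closure ⟨3, rfl⟩, subset_closure ⟨4, rfl⟩]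
    obtain ⟨g', hg', rfl⟩ := hle hg
    have hsub : (wY.all fun y => y.all fun a => [6, 8, 14].contains a) = true := by decide +kernel
    simp only [List.all_eq_true, List.contains_iff_mem] at hsub
    rcases small_ks hC hg' (fun y hyw => H.inj (by
      have := hy _ (hmem y (hsub y hyw))
      simpa only [map_mul, map_inv, show letX θ h 1 = θ (hev [4]) from rfl] using this)) with e | e
    · left; rw [e, map_one]
    · right; rw [e, ← hz]; rfl

end

end CfsgLib.ThType.Local
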