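import Cfsg.Agent.Lib.ThType.Local.Chain
import Cfsg.Agent.Lib.ThType.Local.Letters

/-!
# The orders and the relator forced by the certificates

The element hk lies in a perfect group whose centraliser of a has order eight, so its order is
small; the collapses leave three. The relator r0 commutes with t and U, so it is one of eight
elements; the collapses leave the identity.
-/

set_option autoImplicit false
set_option maxRecDepth 100000
set_option linter.unusedSectionVars false

namespace CfsgLib.ThType.Local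

open CfsgLib.ThOut CfsgLib.ThType.Cert Subgroup

attribute [local irreducible] qW conjT blocks sameM

variable [IsSimpleGroup Cfsg.Spor.Th] {G : Type*} [Group G] {θ : ThOut.Hs →* G} {h : G}
  (H : HHyp θ h)
include H

/-- The conjugate of h by d. -/
noncomputable def kEl (θ : ThOut.Hs →* G) (h : G) : G := θ (hev [6]) * h * θ (hev [6])

theorem d_sq : θ (hev [6]) * θ (hev [6]) = 1 := by
  rw [← map_mul, ← hev_append, hev_one (by decide) (by decide +kernel), map_one]

theorem kEl_inv : (kEl θ h)⁻¹ = θ (hev [6]) * h⁻¹ * θ (hev [6]) := by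
  rw [kEl, mul_inv_rev, mul_inv_rev, inv_eq_of_mul_eq_one_right (d_sq H), mul_assoc]

theorem comm_s_h : Commute (θ (hel 10)) h ∧ Commute (θ (hel 12)) h ∧
    Commute (θ (hel 10)) (kEl θ h) ∧ Commute (θ (hel 12)) (kEl θ h) := by
  refine ⟨H.comm_s.symm, H.comm_t.symm, ?_, ?_⟩
  · have e1 : θ (hev [6]) * θ (hel 10) = θ (hel 11) * θ (hev [6]) := by
      rw [← map_mul, ← map_mul]
      have := hev_eq (by decide) (by decide) d_flip
      simp only [hev, List.map_cons, List.map_nil, List.prod_cons, List.prod_nil, mul_one] at this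
      simp [hev, this]
    have e2 : θ (hel 11) = (θ (hel 10))⁻¹ := by
      have := theta_inv H (u := [10]) (v := [11]) (by decide) s_inv
      simpa [hev] using this
    have e3 : θ (hev [6]) * θ (hel 11) = θ (hel 10) * θ (hev [6]) := by
      calc θ (hev [6]) * θ (hel 11) = θ (hev [6]) * θ (hel 11) * (θ (hev [6]) * θ (hev [6])) := by
            rw [d_sq H, mul_one]
        _ = θ (hev [6]) * (θ (hel 11) * θ (hev [6])) * θ (hev [6]) := by group
        _ = (θ (hev [6]) * θ (hev [6])) * θ (hel 10) * θ (hev [6]) := by rw [← e1]; group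
        _ = _ := by rw [d_sq H, one_mul]
    have e4 : h * θ (hel 11) = θ (hel 11) * h := by
      rw [e2]; exact H.comm_s.inv_right.eq
    show θ (hel 10) * kEl θ h = kEl θ h * θ (hel 10)
    rw [kEl, mul_assoc (θ (hev [6]) * h), e1, ← mul_assoc, ← mul_assoc, ← e3, mul_assoc _ (θ _) h,
      ← e4, mul_assoc (θ (hev [6])) h]
    group
  · have e : Commute (θ (hel 12)) (θ (hev [6])) := by
      have := commute_model H (u := [12]) (v := [6]) (by decide) (by decide) (by decide +kernel)
      simpa [hev] using this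
    exact (e.mul_right H.comm_t.symm).mul_right e

variable [Finite Cfsg.Spor.Th] [Finite G]
  (hC : Nat.card (Subgroup.centralizer ({el 0} : Set Cfsg.Spor.Th)) ≤ 92897280)
include hC

theorem qe_inj {i j : ℕ} (hi : i < 512) (hj : j < 512) (e : hev (qe i) = hev (qe j)) : i = j := by
  have e1 := congrArg bar e
  rw [bar_qe, bar_qe] at e1
  have e2 := eb_inj (by omega) (by omega) e1
  have hz : hev [0] = zH := by simp [hev, zH]
  by_contra hne
  simp only [qe, e2, hev_append, mul_right_inj, Nat.testBit_zero] at e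
  split_ifs at e with a b b <;> simp only [decide_eq_true_eq] at a b
  · omega
  · rw [hz, hev_nil] at e; exact zH_ne e
  · rw [hz, hev_nil] at e; exact zH_ne e.symm
  · omega

/-- The subgroup of c, f, h, k. -/
def pSub (θ : ThOut.Hs →* G) (h : G) : Subgroup G :=
  closure {θ (hev [4]), θ (hev [6, 4, 6]), h, kEl θ h}

theorem pSub_comm {x : G} (hx : x ∈ pSub θ h) :
    Commute (θ (hel 10)) x ∧ Commute (θ (hel 12)) x := by
  obtain ⟨s1, t1, s2, t2⟩ := comm_s_h H
  have hle : pSub θ h ≤ centralizer ({θ (hel 10), θ (hel 12)} : Set G) := by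
    refine (closure_le _).2 fun y hy => mem_centralizer_iff.2 fun z hz => ?_
    have m : ∀ {u v : List ℕ} (g : ℕ), v = [g] → okW (u ++ v) = true → okW (v ++ u) = true →
        sameM (u ++ v) (v ++ u) = true → θ (hel g) * θ (hev u) = θ (hev u) * θ (hel g) := by
      intro u v g hv h1 h2 h3
      subst hv
      have := (commute_model H h1 h2 h3).eq
      simpa [hev] using this.symm
    rcases hz with rfl | rfl <;> rcases hy with rfl | rfl | rfl | rfl
    exacts [m 10 rfl (by decide) (by decide) c_s, m 10 rfl (by decide) (by decide) f_s, s1, s2,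
      m 12 rfl (by decide) (by decide) c_t, m 12 rfl (by decide) (by decide) f_t, t1, t2]
  have := mem_centralizer_iff.1 (hle hx)
  exact ⟨this _ (Set.mem_insert _ _), this _ (Set.mem_insert_of_mem _ rfl)⟩

theorem order_hk (x : G) (hx : x ∈ pSub θ h) : orderOf x ∈ [1, 2, 3, 4, 5, 7] := by
  set P := pSub θ h with hP
  have hz : hev [0] = zH := by simp [hev, zH]
  set c := θ (hev [4]) with hc
  set f := θ (hev [6, 4, 6]) with hf
  set a := θ zH with ha
  set d := θ (hev [6]) with hd
  have mc : c ∈ P := subset_closure (Or.inl rfl)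
  have mf : f ∈ P := subset_closure (Or.inr (Or.inl rfl))
  have mh : h ∈ P := subset_closure (Or.inr (Or.inr (Or.inl rfl)))
  have mk : kEl θ h ∈ P := subset_closure (Or.inr (Or.inr (Or.inr rfl)))
  have hdd : d * d = 1 := d_sq H
  have hcc : c * c = 1 := by
    simpa [wval, letX, back, ← hc] using wval_back (θ := θ) (h := h) (by decide) rel17
  have hfc : f = d * c * d := by
    rw [hf, hd, hc, ← map_mul, ← map_mul, ← hev_append, ← hev_append]; rfl
  have hff : f * f = 1 := by
    rw [hfc, show d * c * d * (d * c * d) = d * (c * (d * d) * c) * d by group, hdd, mul_one, hcc,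
      mul_one, hdd]
  have hsq : (c * f) * (c * f) = a := by
    rw [hc, hf, ← map_mul, ← map_mul, ← hev_append, ← hev_append,
      show hev ([4] ++ [6, 4, 6] ++ ([4] ++ [6, 4, 6])) = hev [0] from
        hev_eq (by decide) (by decide) cf_sq, hz]
  have had : d * a * d = a := by
    rw [hd, ha, ← map_mul, ← map_mul, ← hz, ← hev_append, ← hev_append,
      show hev ([6] ++ [0] ++ [6]) = hev [0] from
        hev_eq (by decide) (by decide) (by decide +kernel)]
  have hah : h⁻¹ * a * h = c := by rw [ha, ← hz, H.conj_a]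
  have hki : (kEl θ h)⁻¹ * a * kEl θ h = f := by
    rw [kEl_inv H, kEl, ← hd, hfc, ← hah]
    calc d * h⁻¹ * d * a * (d * h * d) = d * h⁻¹ * (d * a * d) * h * d := by group
      _ = _ := by rw [had]; group
  have hfh : f * h * f = h⁻¹ := eq_inv_of_mul_eq_one_left (by
    have := H.inverted
    rw [pow_two, ← hf] at this
    rw [mul_assoc (f * h)]
    exact this)
  have hck : c * kEl θ h * c = (kEl θ h)⁻¹ := by
    rw [kEl_inv H, ← hfh, kEl, ← hd]
    calc c * (d * h * d) * c = (d * d) * c * d * h * d * c * (d * d) := by rw [hdd]; group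
      _ = d * (d * c * d) * h * (d * c * d) * d := by group
      _ = _ := by rw [← hfc]; group
  have mca : a ∈ P := hsq ▸ mul_mem (mul_mem mc mf) (mul_mem mc mf)
  -- perfect
  have hperf : commutator P = ⊤ := by
    have hcomm : ∀ u v : P, u * v * u⁻¹ * v⁻¹ ∈ commutator P := fun u v =>
      Subgroup.commutator_mem_commutator (Subgroup.mem_top u) (Subgroup.mem_top v)
    have hn : (commutator P).Normal := inferInstance
    have pa : (⟨a, mca⟩ : P) ∈ commutator P := by
      have := hcomm ⟨c, mc⟩ ⟨f, mf⟩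
      have e : (⟨c, mc⟩ : P) * ⟨f, mf⟩ * (⟨c, mc⟩ : P)⁻¹ * (⟨f, mf⟩ : P)⁻¹ = ⟨a, mca⟩ := by
        refine Subtype.ext ?_
        show c * f * c⁻¹ * f⁻¹ = a
        rw [inv_eq_of_mul_eq_one_right hcc, inv_eq_of_mul_eq_one_right hff, ← hsq, mul_assoc]
      rwa [e] at this
    have pc : (⟨c, mc⟩ : P) ∈ commutator P := by
      have := hn.conj_mem _ pa (⟨h, mh⟩ : P)⁻¹
      convert this using 1
      exact Subtype.ext (by show c = h⁻¹ * a * h⁻¹⁻¹; rw [inv_inv, hah])
    have pf : (⟨f, mf⟩ : P) ∈ commutator P := by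
      have := hn.conj_mem _ pa (⟨_, mk⟩ : P)⁻¹
      convert this using 1
      exact Subtype.ext (by show f = (kEl θ h)⁻¹ * a * (kEl θ h)⁻¹⁻¹; rw [inv_inv, hki])
    have cube_mem : ∀ (u : G) (hu : u ∈ P) (v : G) (hv : v ∈ P), u ^ 3 = 1 → v * v = 1 →
        v * u * v = u⁻¹ → (⟨u, hu⟩ : P) ∈ commutator P := by
      intro u hu v hv h3 hvv hinv
      have := hcomm (⟨u, hu⟩ : P) ⟨v, hv⟩
      have e : ((⟨u, hu⟩ : P) * ⟨v, hv⟩ * (⟨u, hu⟩ : P)⁻¹ * (⟨v, hv⟩ : P)⁻¹) ^ 2 = ⟨u, hu⟩ := by
        refine Subtype.ext ?_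
        show (u * v * u⁻¹ * v⁻¹) ^ 2 = u
        have e1 : v * u⁻¹ * v⁻¹ = u := by
          have e2 := congrArg (·⁻¹) hinv
          simp only [mul_inv_rev, inv_inv, mul_assoc] at e2
          rw [inv_eq_of_mul_eq_one_right hvv] at e2 ⊢
          rw [mul_assoc]; exact e2
        rw [mul_assoc u, mul_assoc u, e1]
        calc (u * u) ^ 2 = u ^ 3 * u := by simp [pow_succ, mul_assoc]
          _ = u := by rw [h3, one_mul]
      exact e ▸ pow_mem this 2
    have ph : (⟨h, mh⟩ : P) ∈ commutator P := cube_mem h mh f mf H.cube hff hfh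
    have pk : (⟨_, mk⟩ : P) ∈ commutator P := by
      refine cube_mem _ mk c mc ?_ hcc hck
      calc kEl θ h ^ 3 = d * h * (d * d) * h * (d * d) * h * d := by
            simp [kEl, ← hd, pow_succ, mul_assoc]
        _ = d * (h ^ 3) * d := by rw [hdd]; simp [pow_succ, mul_assoc]
        _ = 1 := by rw [H.cube, mul_one, hdd]
    rw [eq_top_iff]
    rintro ⟨y, hy⟩ -
    have : P ≤ (commutator P).map P.subtype := by
      refine (closure_le _).2 ?_
      rintro z (rfl | rfl | rfl | rfl)
      exacts [⟨_, pc, rfl⟩, ⟨_, pf, rfl⟩, ⟨_, ph, rfl⟩, ⟨_, pk, rfl⟩]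
    obtain ⟨w, hw, hwy⟩ := this hy
    rwa [show (⟨y, hy⟩ : P) = w from Subtype.ext hwy.symm]
  -- the centraliser of a
  have hane : a ≠ 1 := fun e => zH_ne (H.inj (by rw [map_one]; exact e))
  have hcne : c ≠ 1 := fun e => (c_ne H hC).1 (H.inj (by rw [map_one]; exact e))
  have hcomm_a : ∀ g : ThOut.Hs, θ g * a = a * θ g := fun g => by
    rw [ha, ← map_mul, ← map_mul, zH_comm]
  have hmem8 : ∀ j < 8, θ (hev (qe j)) ∈ P := by
    have hq : ∀ j < 8, ((qe j).map fun g => if g = 4 then 0 else g).all (fun g => [0, 6].contains g)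
        = true := by decide +kernel
    have hdec : ∀ j < 8, qe j ∈ [[], [0], [4], [4, 0], [6, 4, 6], [6, 4, 6, 0], [4, 6, 4, 6],
        [4, 6, 4, 6, 0]] := by decide +kernel
    intro j hj
    have ma : θ (hev [0]) ∈ P := hz ▸ mca
    have h2 := hdec j hj
    simp only [List.mem_cons, List.not_mem_nil, or_false] at h2
    rcases h2 with e | e | e | e | e | e | e | e <;> rw [e]
    · rw [hev_nil, map_one]; exact one_mem _
    · exact ma
    · exact mc
    · rw [show ([4, 0] : List ℕ) = [4] ++ [0] from rfl, hev_append, map_mul]; exact mul_mem mc ma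
    · exact mf
    · rw [show ([6, 4, 6, 0] : List ℕ) = [6, 4, 6] ++ [0] from rfl, hev_append, map_mul]
      exact mul_mem mf ma
    · rw [show ([4, 6, 4, 6] : List ℕ) = [4] ++ [6, 4, 6] from rfl, hev_append, map_mul]
      exact mul_mem mc mf
    · rw [show ([4, 6, 4, 6, 0] : List ℕ) = [4] ++ [6, 4, 6] ++ [0] from rfl, hev_append,
        hev_append, map_mul, map_mul]
      exact mul_mem (mul_mem mc mf) ma
  let fn : Fin 8 → centralizer ({(⟨a, mca⟩ : P)} : Set P) := fun j =>
    ⟨⟨θ (hev (qe j)), hmem8 j j.isLt⟩, mem_centralizer_singleton_iff.2 (Subtype.ext (hcomm_a _))⟩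
  have hbij : Function.Bijective fn := by
    refine ⟨fun i j e => Fin.ext (qe_inj H hC (by omega) (by omega) (H.inj ?_)), ?_⟩
    · exact congrArg (fun y : centralizer ({(⟨a, mca⟩ : P)} : Set P) => ((y : P) : G)) e
    · rintro ⟨⟨y, hy⟩, hyc⟩
      have hya : y * a = a * y := congrArg Subtype.val (mem_centralizer_singleton_iff.1 hyc)
      obtain ⟨g, rfl⟩ : y ∈ θ.range := H.range ▸ mem_centralizer_singleton_iff.2 hya
      obtain ⟨e1, e2⟩ := pSub_comm H hC hy
      obtain ⟨j, hj, rfl⟩ := fixed_st hC (x := g)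
        (H.inj (by rw [map_mul, map_mul]; exact e1.eq.symm))
        (H.inj (by rw [map_mul, map_mul]; exact e2.eq.symm))
      exact ⟨⟨j, hj⟩, rfl⟩
  have hC8 : Nat.card (centralizer ({(⟨a, mca⟩ : P)} : Set P)) = 8 := by
    rw [← Nat.card_eq_of_bijective fn hbij, Nat.card_fin]
  have ord2 : ∀ (u : G) (hu : u ∈ P), u * u = 1 → u ≠ 1 → orderOf (⟨u, hu⟩ : P) = 2 := by
    intro u hu h1 h2
    refine orderOf_eq_prime ?_ fun e => h2 (congrArg Subtype.val e)
    exact Subtype.ext (by simpa [pow_two] using h1)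
  have haa : a * a = 1 := by rw [ha, ← map_mul, zH_sq, map_one]
  have r4 : orderOf (⟨c * f, mul_mem mc mf⟩ : P) = 4 := by
    refine orderOf_eq_prime_pow (p := 2) (n := 1) (fun e => hane ?_) (Subtype.ext ?_)
    · have := congrArg Subtype.val e
      simpa [pow_two, hsq] using this
    · show (c * f) ^ 4 = 1
      rw [show (c * f) ^ 4 = (c * f) * (c * f) * ((c * f) * (c * f)) by simp [pow_succ, mul_assoc],
        hsq, haa]
  have key := orderOf_mem_of_dihedral hperf (ord2 a mca haa hane) hC8
    (r := ⟨c * f, mul_mem mc mf⟩) (s := ⟨c, mc⟩)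
    (mem_centralizer_singleton_iff.2 (Subtype.ext (by
      show c * f * a = a * (c * f)
      rw [← hsq]
      simp only [mul_assoc])))
    r4 (mem_centralizer_singleton_iff.2 (Subtype.ext (hcomm_a _))) (ord2 c mc hcc hcne)
    (Subtype.ext (by
      show c * (c * f) * c⁻¹ = (c * f)⁻¹
      rw [← mul_assoc, hcc, one_mul, mul_inv_rev, inv_eq_of_mul_eq_one_right hff,
        inv_eq_of_mul_eq_one_right hcc]))
    ⟨x, hx⟩
  rwa [← orderOf_injective P.subtype P.subtype_injective] at key

theorem pow_word (w : List ℕ) : ∀ n, wval (letX θ h) ((List.replicate n w).flatten) =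
    wval (letX θ h) w ^ n
  | 0 => by simp [wval]
  | n + 1 => by
    rw [List.replicate_succ, List.flatten_cons, pow_succ', ← pow_word w n]
    simp [wval, List.prod_append]

theorem hk_three : (h * kEl θ h) ^ 3 = 1 := by
  have mh : h ∈ pSub θ h := subset_closure (Or.inr (Or.inr (Or.inl rfl)))
  have mk : kEl θ h ∈ pSub θ h := subset_closure (Or.inr (Or.inr (Or.inr rfl)))
  have S := setup H hC
  have e1 : wval (letX θ h) [6, 2, 6, 2] = h * kEl θ h := by
    simp [wval, letX, back, kEl, mul_assoc]
  have e2 : wval (letX θ h) [6, 2, 7, 2] = h * (kEl θ h)⁻¹ := by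
    rw [kEl_inv H]
    simp [wval, letX, back, mul_assoc]
  have o1 := order_hk H hC _ (mul_mem mh mk)
  have o2 := order_hk H hC _ (mul_mem mh (inv_mem mk))
  rw [← e1] at o1 ⊢
  rw [← e2] at o2
  set y1 := wval (letX θ h) [6, 2, 6, 2] with hy1
  set y2 := wval (letX θ h) [6, 2, 7, 2] with hy2
  have rel : ∀ (w : List ℕ) (n : ℕ), orderOf (wval (letX θ h) w) = n →
      wval (letX θ h) ((List.replicate n w).flatten) = 1 := fun w n e => by
    rw [pow_word H hC, ← e, pow_orderOf_eq_one]
  simp only [List.mem_cons, List.not_mem_nil, or_false] at o1 o2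
  have one : ∀ {D : CfsgLib.PresCert.Data} {r : List ℕ}, Refutes D (commonRels ++ [r]) →
      wval (letX θ h) r = 1 → False := fun hr h1 => S.refute hr (by simpa using h1)
  rcases o1 with e | e | e | e | e | e
  · exact (one refutesK1 (rel _ 1 e)).elim
  · exact (one refutesK2 (rel _ 2 e)).elim
  · rw [← e, pow_orderOf_eq_one]
  · exact (one refutesK4 (rel _ 4 e)).elim
  · exact (one refutesK5 (rel _ 5 e)).elim
  · exfalso
    rcases o2 with e' | e' | e' | e' | e' | e'
    · exact one refutesJ1 (rel _ 1 e')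
    · exact one refutesJ2 (rel _ 2 e')
    · exact one refutesJ3 (rel _ 3 e')
    · exact one refutesJ4 (rel _ 4 e')
    · exact one refutesJ5 (rel _ 5 e')
    · refine S.refute refutesJ7K7 ?_
      intro w hw
      simp only [List.mem_cons, List.not_mem_nil, or_false] at hw
      rcases hw with rfl | rfl
      · exact rel _ 7 e
      · exact rel _ 7 e'

/-- The model part of r0 times a tail is a code times the tail. -/
theorem tail_ok : (tails.all fun p => okW (qe p.1 ++ [6, 14, 6, 14] ++ p.2) &&
    sameM (qe p.1 ++ [6, 14, 6, 14] ++ p.2) []) = true := by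
  decide +kernel

theorem r0_one : ∀ w ∈ relR0, wval (letX θ h) w = 1 := by
  intro w hw
  simp only [relR0, List.mem_cons, List.not_mem_nil, or_false] at hw
  subst hw
  have h6 : letX θ h 6 = h := rfl
  have h7 : letX θ h 7 = h⁻¹ := rfl
  set pre : List ℕ := [0, 6, 2, 4, 2, 6, 6, 3, 2, 5, 2, 0, 7] with hpre
  set W := wval (letX θ h) [0, 6, 2, 4, 2, 6, 6, 3, 2, 5, 2, 0, 7, 5, 2, 5, 2] with hW
  have hsteps : W = (steps.map (stepVal θ h)).prod := by
    rw [hW]
    simp [wval, steps, stepVal, letX, back, hev, map_mul, mul_assoc]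
  have hU : ∀ i < 5, Commute W (θ (hev (uGens.getD i []))) := fun i hi =>
    hsteps ▸ relator_comm H i hi
  have ht : Commute W (θ (hel 12)) := by
    set T := θ (hel 12) with hT
    have hm : ∀ {g : ℕ} {v : ℕ}, v ∈ [12, 13] → okW [g, 12] = true → okW [v, g] = true →
        sameM [g, 12] [v, g] = true → SemiconjBy (θ (hev [g])) T (θ (hel v)) := by
      intro g v _ h1 h2 h3
      show _ * _ = _ * _
      rw [hT, ← map_mul, ← map_mul]
      have := hev_eq h1 h2 h3
      simp only [hev, List.map_cons, List.map_nil, List.prod_cons, List.prod_nil, mul_one] at this ⊢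
      rw [this]
    have ti : θ (hel 13) = T⁻¹ := by
      have := theta_inv H (u := [12]) (v := [13]) (by decide) (by decide +kernel)
      simpa [hev, hT] using this
    have a0 : SemiconjBy (θ (hev [0])) T T := hm (v := 12) (by decide) (by decide) (by decide) (by decide +kernel)
    have d0 : SemiconjBy (θ (hev [6])) T T := hm (v := 12) (by decide) (by decide) (by decide) (by decide +kernel)
    have e0 : SemiconjBy (θ (hev [8])) T T := hm (v := 12) (by decide) (by decide) (by decide) (by decide +kernel)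
    have u0 : SemiconjBy (θ (hev [14])) T T⁻¹ := ti ▸ hm (v := 13) (by decide) (by decide) (by decide) (by decide +kernel)
    have v0 : SemiconjBy (θ (hev [15])) T T⁻¹ := ti ▸ hm (v := 13) (by decide) (by decide) (by decide) (by decide +kernel)
    have u1 : SemiconjBy (θ (hev [14])) T⁻¹ T := by simpa using u0.inv_right
    have v1 : SemiconjBy (θ (hev [15])) T⁻¹ T := by simpa using v0.inv_right
    have h0 : SemiconjBy h T T := H.comm_t
    have h1 : SemiconjBy h⁻¹ T T := H.comm_t.inv_left
    have := a0.mul_left (h0.mul_left (d0.mul_left (u1.mul_left (d0.inv_right.mul_left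
      (h0.inv_right.mul_left (h0.inv_right.mul_left (e0.inv_right.mul_left (d0.inv_right.mul_left
      (v0.mul_left (d0.mul_left (a0.mul_left (h1.mul_left (v1.mul_left (d0.inv_right.mul_left
      (v0.mul_left d0)))))))))))))))
    show W * T = T * W
    simpa [hW, wval, letX, back, mul_assoc] using this.eq
  have hz : hev [0] = zH := by simp [hev, zH]
  obtain ⟨g, hg⟩ : W ∈ θ.range := H.range ▸ mem_centralizer_singleton_iff.2 (by
    have := (hU 0 (by norm_num)).eq
    rw [show uGens.getD 0 [] = [0] from rfl, hz] at this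
    exact this)
  have pull : ∀ z : ThOut.Hs, Commute W (θ z) → g * z = z * g := fun z hzc =>
    H.inj (by rw [map_mul, map_mul, hg]; exact hzc.eq)
  obtain ⟨j, hj, rfl⟩ := fixed_u hC (pull _ ht) (pull _ (hU 1 (by norm_num))) (fun i => pull _ (by
    fin_cases i
    exacts [hU 2 (by norm_num), hU 3 (by norm_num), hU 4 (by norm_num)]))
  rcases eq_or_ne j 0 with rfl | hne
  · rw [← hg, show qe 0 = [] by decide +kernel, hev_nil, map_one]
  · exfalso
    have S := setup H hC
    obtain ⟨v, hv⟩ : ∃ v, (j, v) ∈ tails := by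
      simp only [List.mem_cons, List.not_mem_nil, or_false] at hj
      rcases hj with rfl | rfl | rfl | rfl | rfl | rfl | rfl | rfl <;>
        first
          | exact absurd rfl hne
          | simp [tails]
    have hok := List.all_eq_true.1 (tail_ok H hC) _ hv
    simp only [Bool.and_eq_true] at hok
    have h1 : θ (hev (qe j)) * θ (hev [6, 14, 6, 14]) * θ (hev v) = 1 := by
      rw [← map_mul, ← map_mul, ← hev_append, ← hev_append, hev_one hok.1 hok.2, map_one]
    have hp : wval (letX θ h) pre = θ (hev (qe j)) * θ (hev [6, 14, 6, 14]) := by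
      have hs : θ (hev [15, 6, 15, 6]) * θ (hev [6, 14, 6, 14]) = 1 := by
        rw [← map_mul, ← hev_append, hev_one (by decide) (by decide +kernel), map_one]
      have : W = wval (letX θ h) pre * θ (hev [15, 6, 15, 6]) := by
        simp [hW, hpre, wval, letX, back, hev, map_mul, mul_assoc]
      rw [hg, this, mul_assoc, hs, mul_one]
    have hfin : ∀ (r : List ℕ), (∀ x ∈ r, x < 6) → r.map back = v →
        wval (letX θ h) (pre ++ r) = 1 := by
      intro r hr he
      have : wval (letX θ h) (pre ++ r) = wval (letX θ h) pre * wval (letX θ h) r := by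
        simp [wval, List.prod_append]
      rw [this, hp, wval_low hr, he, h1]
    have one : ∀ {D : CfsgLib.PresCert.Data} (r : List ℕ), Refutes D (commonRels ++ [pre ++ r]) →
        (∀ x ∈ r, x < 6) → r.map back = v → False :=
      fun r hr h2 h3 => S.refute hr (by simpa using hfin r h2 h3)
    simp only [tails, List.mem_cons, Prod.mk.injEq, List.not_mem_nil, or_false] at hv
    rcases hv with ⟨-, rfl⟩ | ⟨-, rfl⟩ | ⟨-, rfl⟩ | ⟨-, rfl⟩ | ⟨-, rfl⟩ | ⟨-, rfl⟩ | ⟨-, rfl⟩
    · exact one [5, 2, 5, 2, 0] refutesZa (by decide) (by decide)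
    · exact one [5, 2, 5, 2, 1] refutesZc (by decide) (by decide)
    · exact one [5, 2, 5, 2, 0, 1] refutesZac (by decide) (by decide)
    · exact one [5, 2, 5, 2, 1, 2, 5, 2, 1, 2, 4, 2] refutesZq (by decide) (by decide)
    · exact one [5, 2, 5, 2, 0, 1, 2, 5, 2, 1, 2, 4, 2] refutesZaq (by decide) (by decide)
    · exact one [5, 2, 5, 5, 2, 1, 2, 4, 2] refutesZcq (by decide) (by decide)
    · exact one [5, 2, 5, 2, 0, 2, 5, 2, 1, 2, 4, 2] refutesZacq (by decide) (by decide)

end CfsgLib.ThType.Local
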