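import Cfsg.Agent.Lib.ThType.Local.ChainDefs

/-!
# Kernel checks of single steps of the chains (generated)
-/

set_option autoImplicit false
set_option maxRecDepth 100000

namespace CfsgLib.ThType.Local

theorem step15 : stepOk (1, []) 7 5 = true := by decide +kernel

theorem step16 : stepOk (2, [6, 15, 6]) 5 4 = true := by decide +kernel

theorem step17 : stepOk (2, [8]) 4 7 = true := by decide +kernel

theorem step18 : stepOk (2, [6, 14, 6]) 5 4 = true := by decide +kernel

theorem step19 : stepOk (2, [15, 6, 15, 6]) 8 8 = true := by decide +kernel

theorem step20 : stepOk (2, [6, 15, 6]) 8 20 = true := by decide +kernel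

theorem step21 : stepOk (2, [8]) 20 20 = true := by decide +kernel

theorem step22 : stepOk (2, [6, 14, 6]) 20 8 = true := by decide +kernel

theorem step23 : stepOk (2, [15, 6, 15, 6]) 16 19 = true := by decide +kernel

theorem step24 : stepOk (1, []) 19 17 = true := by decide +kernel

theorem step25 : stepOk (2, [6, 15, 6]) 17 12 = true := by decide +kernel

theorem step26 : stepOk (2, [8]) 12 15 = true := by decide +kernel

theorem step27 : stepOk (0, []) 15 14 = true := by decide +kernel

theorem step28 : stepOk (0, []) 14 13 = true := by decide +kernel

theorem step29 : stepOk (2, [6, 14, 6]) 13 16 = true := by decide +kernel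

end CfsgLib.ThType.Local
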