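import Cfsg.Agent.Lib.ThType.Local.ChainA
import Cfsg.Agent.Lib.ThType.Local.ChainB

/-!
# The relator on the five generators of U

U is generated by a, c and three conjugates of q. The steps of the relator map products of these
generators to products of these generators; five chains of such products return to their start.
-/

set_option autoImplicit false
set_option maxRecDepth 100000

namespace CfsgLib.ThType.Local

open CfsgLib.ThOut

attribute [local irreducible] qW conjT blocks sameM

/-- The tails of the seven forbidden values, for the codes 1, 2, 3, 408, 409, 410, 411. -/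
def tails : List (ℕ × List ℕ) :=
  [(1, [15, 6, 15, 6, 0]), (2, [15, 6, 15, 6, 4]), (3, [15, 6, 15, 6, 0, 4]),
    (409, [15, 6, 15, 6, 4, 6, 15, 6, 4, 6, 14, 6]), (408, [15, 6, 15, 6, 0, 4, 6, 15, 6, 4, 6, 14, 6]),
    (411, [15, 6, 15, 15, 6, 4, 6, 14, 6]), (410, [15, 6, 15, 6, 0, 6, 15, 6, 4, 6, 14, 6])]

section

variable [IsSimpleGroup Cfsg.Spor.Th] {G : Type*} [Group G] {θ : ThOut.Hs →* G} {h : G}
  (H : HHyp θ h)
include H

theorem conj_uGens : ∀ i < 5, h * θ (hev (uGens.getD i [])) = θ (hev (hGens.getD i [])) * h ∧
    h⁻¹ * θ (hev (uGens.getD i [])) = θ (hev (hiGens.getD i [])) * h⁻¹ := by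
  have ha : θ (hev [0]) * h = h * θ (hev [4]) := by rw [← H.conj_a]; group
  have hc : θ (hev [4]) * h = h * θ (hev [4, 0]) := by rw [← H.conj_c]; group
  have hca : θ (hev [4, 0]) = θ (hev [4]) * θ (hev [0]) := by
    rw [← map_mul]; simp [hev]
  have hac : θ (hev [0, 4]) = θ (hev [0]) * θ (hev [4]) := by
    rw [← map_mul]; simp [hev]
  have haa : θ (hev [0]) * θ (hev [0]) = 1 := by
    rw [← map_mul]; simp [hev, ← zH.eq_def, show hel 0 = zH from rfl, zH_sq]
  have hcomm : ∀ g : ThOut.Hs, θ (hev [0]) * θ g = θ g * θ (hev [0]) := by
    intro g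
    rw [← map_mul, ← map_mul]
    simp [hev, show hel 0 = zH from rfl, zH_comm]
  have hq : ∀ w : List ℕ, Commute h (θ (hev w)) →
      h * θ (hev w) = θ (hev w) * h ∧ h⁻¹ * θ (hev w) = θ (hev w) * h⁻¹ :=
    fun w hw => ⟨hw.eq, hw.inv_left.eq⟩
  have hs11 : hel 11 = (hel 10)⁻¹ := eq_inv_of_mul_eq_one_left (by
    have := hev_eq (u := [11, 10]) (v := []) (by decide) rfl (by decide +kernel)
    simpa [hev] using this)
  have q1 := H.comm_q
  have q2 : Commute h (θ (hev (uGens.getD 3 []))) := by
    have : hev (uGens.getD 3 []) = hel 10 * hev [4, 6, 15, 6, 4, 6, 14, 6] * hel 11 := by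
      simp [uGens, hev, mul_assoc]
    rw [this, hs11, map_mul, map_mul, map_inv]
    exact (H.comm_s.mul_right q1).mul_right H.comm_s.inv_right
  have q3 : Commute h (θ (hev (uGens.getD 4 []))) := by
    have : hev (uGens.getD 4 []) = hel 11 * hev [4, 6, 15, 6, 4, 6, 14, 6] * hel 10 := by
      simp [uGens, hev, mul_assoc]
    rw [this, hs11, map_mul, map_mul, map_inv]
    exact (H.comm_s.inv_right.mul_right q1).mul_right H.comm_s
  intro i hi
  interval_cases i
  · refine ⟨?_, ?_⟩
    · show h * θ (hev [0]) = θ (hev [0, 4]) * h
      rw [hac, mul_assoc, hc, hca, ← mul_assoc (θ (hev [0])) h, ha]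
      calc h * θ (hev [0]) = h * ((θ (hev [4]) * θ (hev [4])) * θ (hev [0])) := by
            rw [show θ (hev [4]) * θ (hev [4]) = 1 by
              rw [← map_mul, show hev [4] * hev [4] = 1 by rw [show ([4] : List ℕ) = qw 0 by decide +kernel]; exact qq_sq (by norm_num), map_one],
              one_mul]
        _ = _ := by group
    · show h⁻¹ * θ (hev [0]) = θ (hev [4]) * h⁻¹
      calc h⁻¹ * θ (hev [0]) = h⁻¹ * (θ (hev [0]) * h) * h⁻¹ := by group
        _ = _ := by rw [ha]; group
  · refine ⟨?_, ?_⟩
    · show h * θ (hev [4]) = θ (hev [0]) * h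
      exact ha.symm
    · show h⁻¹ * θ (hev [4]) = θ (hev [4, 0]) * h⁻¹
      calc h⁻¹ * θ (hev [4]) = h⁻¹ * (θ (hev [4]) * h) * h⁻¹ := by group
        _ = _ := by rw [hc]; group
  · exact hq _ q1
  · exact hq _ q2
  · exact hq _ q3

theorem conj_uw (m : ℕ) : h * θ (hev (uw uGens m)) = θ (hev (uw hGens m)) * h ∧
    h⁻¹ * θ (hev (uw uGens m)) = θ (hev (uw hiGens m)) * h⁻¹ := by
  have key : ∀ n ≤ 5,
      h * θ (hev ((List.range n).flatMap fun i => if m.testBit i then uGens.getD i [] else [])) =
        θ (hev ((List.range n).flatMap fun i => if m.testBit i then hGens.getD i [] else [])) * h ∧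
      h⁻¹ * θ (hev ((List.range n).flatMap fun i => if m.testBit i then uGens.getD i [] else [])) =
        θ (hev ((List.range n).flatMap fun i => if m.testBit i then hiGens.getD i [] else [])) *
          h⁻¹ := by
    intro n
    induction n with
    | zero => intro _; simp [hev_nil]
    | succ n ih =>
      intro hn
      obtain ⟨e1, e2⟩ := ih (by omega)
      obtain ⟨f1, f2⟩ := conj_uGens H n (by omega)
      simp only [List.range_succ, List.flatMap_append, List.flatMap_cons, List.flatMap_nil,
        List.append_nil, hev_append, map_mul]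
      refine ⟨?_, ?_⟩
      · rw [← mul_assoc, e1, mul_assoc, mul_assoc]
        split_ifs
        · rw [f1]
        · simp [hev_nil]
      · rw [← mul_assoc, e2, mul_assoc, mul_assoc]
        split_ifs
        · rw [f2]
        · simp [hev_nil]
  exact key 5 le_rfl

/-- The value of a step. -/
noncomputable def stepVal (θ : ThOut.Hs →* G) (h : G) : ℕ × List ℕ → G
  | (0, _) => h
  | (1, _) => h⁻¹
  | (_, w) => θ (hev w)

theorem step_move {s : ℕ × List ℕ} {m m' : ℕ} (e : stepOk s m m' = true) :
    SemiconjBy (stepVal θ h s) (θ (hev (uw uGens m))) (θ (hev (uw uGens m'))) := by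
  obtain ⟨k, w⟩ := s
  simp only [stepOk, Bool.and_eq_true] at e
  match k with
  | 0 =>
    have e' := hev_eq e.1.1 e.1.2 e.2
    simp only [stepSides] at e'
    exact (conj_uw H m).1.trans (by rw [e']; rfl)
  | 1 =>
    have e' := hev_eq e.1.1 e.1.2 e.2
    simp only [stepSides] at e'
    exact (conj_uw H m).2.trans (by rw [e']; rfl)
  | k + 2 =>
    have e' := hev_eq e.1.1 e.1.2 e.2
    simp only [stepSides, hev_append] at e'
    show θ (hev w) * _ = _ * θ (hev w)
    rw [← map_mul, ← map_mul, e']

theorem step_central (m : ℕ) :
    SemiconjBy (stepVal θ h (2, [0])) (θ (hev (uw uGens m))) (θ (hev (uw uGens m))) := by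
  show θ (hev [0]) * _ = _ * θ (hev [0])
  rw [← map_mul, ← map_mul]
  simp [hev, show hel 0 = zH from rfl, zH_comm]

theorem step_fixed (m : ℕ) (h0 : m.testBit 0 = false) (h1 : m.testBit 1 = false) :
    SemiconjBy (stepVal θ h (0, [])) (θ (hev (uw uGens m))) (θ (hev (uw uGens m))) := by
  have e : uw hGens m = uw uGens m := by
    simp [uw, hGens, uGens, List.range_succ, h0, h1]
  show h * _ = _ * h
  rw [(conj_uw H m).1, e]

theorem step_fixed_inv (m : ℕ) (h0 : m.testBit 0 = false) (h1 : m.testBit 1 = false) :
    SemiconjBy (stepVal θ h (1, [])) (θ (hev (uw uGens m))) (θ (hev (uw uGens m))) := by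
  have e : uw hiGens m = uw uGens m := by
    simp [uw, hiGens, uGens, List.range_succ, h0, h1]
  show h⁻¹ * _ = _ * h⁻¹
  rw [(conj_uw H m).2, e]

theorem chain_step : ∀ i < 5, ∀ j < 10, SemiconjBy (stepVal θ h (steps.getD (9 - j) (2, [])))
    (θ (hev (uw uGens ((chains.getD i []).getD j 0))))
    (θ (hev (uw uGens ((chains.getD i []).getD (j + 1) 0)))) := by
  intro i hi j hj
  interval_cases i <;> interval_cases j
  · exact step_move H step0
  · exact step_move H step1
  · exact step_central H 2
  · exact step_move H step2
  · exact step_move H step3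
  · exact step_move H step4
  · exact step_move H step5
  · exact step_move H step6
  · exact step_move H step7
  · exact step_central H 1
  · exact step_move H step8
  · exact step_fixed_inv H 4 (by decide +kernel) (by decide +kernel)
  · exact step_central H 4
  · exact step_move H step9
  · exact step_move H step10
  · exact step_move H step11
  · exact step_move H step4
  · exact step_move H step12
  · exact step_move H step13
  · exact step_central H 2
  · exact step_move H step14
  · exact step_move H step15
  · exact step_central H 5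
  · exact step_move H step16
  · exact step_move H step17
  · exact step_move H step5
  · exact step_move H step11
  · exact step_move H step18
  · exact step_fixed H 4 (by decide +kernel) (by decide +kernel)
  · exact step_central H 4
  · exact step_move H step19
  · exact step_fixed_inv H 8 (by decide +kernel) (by decide +kernel)
  · exact step_central H 8
  · exact step_move H step20
  · exact step_move H step21
  · exact step_fixed H 20 (by decide +kernel) (by decide +kernel)
  · exact step_fixed H 20 (by decide +kernel) (by decide +kernel)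
  · exact step_move H step22
  · exact step_fixed H 8 (by decide +kernel) (by decide +kernel)
  · exact step_central H 8
  · exact step_move H step23
  · exact step_move H step24
  · exact step_central H 17
  · exact step_move H step25
  · exact step_move H step26
  · exact step_move H step27
  · exact step_move H step28
  · exact step_move H step29
  · exact step_fixed H 16 (by decide +kernel) (by decide +kernel)
  · exact step_central H 16

/-- The relator commutes with the five generators. -/
theorem relator_comm : ∀ i < 5,
    Commute ((steps.map (stepVal θ h)).prod) (θ (hev (uGens.getD i []))) := by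
  intro i hi
  have hm : (chains.getD i []).getD 0 0 = 2 ^ i ∧ (chains.getD i []).getD 10 0 = 2 ^ i := by
    interval_cases i <;> exact ⟨rfl, rfl⟩
  have hu : hev (uw uGens (2 ^ i)) = hev (uGens.getD i []) := by
    have : uw uGens (2 ^ i) = uGens.getD i [] := by interval_cases i <;> decide +kernel
    rw [this]
  have key : ∀ j ≤ 10, SemiconjBy (((steps.drop (10 - j))).map (stepVal θ h)).prod
      (θ (hev (uw uGens ((chains.getD i []).getD 0 0))))
      (θ (hev (uw uGens ((chains.getD i []).getD j 0)))) := by
    intro j
    induction j with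
    | zero => intro _; simp [show steps.drop 10 = [] from rfl]
    | succ j ih =>
      intro hj
      rw [List.drop_eq_getElem_cons (show 10 - (j + 1) < steps.length by
        show _ < 10; omega), List.map_cons, List.prod_cons,
        show 10 - (j + 1) + 1 = 10 - j by omega]
      refine SemiconjBy.mul_left ?_ (ih (by omega))
      have := chain_step H i hi j (by omega)
      rw [show 9 - j = 10 - (j + 1) by omega, List.getD_eq_getElem _ _
        (show 10 - (j + 1) < steps.length by show _ < 10; omega)] at this
      exact this
  have := key 10 le_rfl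
  rw [show 10 - 10 = 0 from rfl, List.drop_zero, hm.1, hm.2, hu] at this
  exact this

end

end CfsgLib.ThType.Local
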