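import Cfsg.Agent.Lib.ThType.Local.ChainDefs

/-!
# Kernel checks of single steps of the chains (generated)
-/

set_option autoImplicit false
set_option maxRecDepth 100000

namespace CfsgLib.ThType.Local

theorem step0 : stepOk (2, [15, 6, 15, 6]) 1 1 = true := by decide +kernel

theorem step1 : stepOk (1, []) 1 2 = true := by decide +kernel

theorem step2 : stepOk (2, [6, 15, 6]) 2 6 = true := by decide +kernel

theorem step3 : stepOk (2, [8]) 6 5 = true := by decide +kernel

theorem step4 : stepOk (0, []) 5 7 = true := by decide +kernel

theorem step5 : stepOk (0, []) 7 6 = true := by decide +kernel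

theorem step6 : stepOk (2, [6, 14, 6]) 6 2 = true := by decide +kernel

theorem step7 : stepOk (0, []) 2 1 = true := by decide +kernel

theorem step8 : stepOk (2, [15, 6, 15, 6]) 2 4 = true := by decide +kernel

theorem step9 : stepOk (2, [6, 15, 6]) 4 5 = true := by decide +kernel

theorem step10 : stepOk (2, [8]) 5 6 = true := by decide +kernel

theorem step11 : stepOk (0, []) 6 5 = true := by decide +kernel

theorem step12 : stepOk (2, [6, 14, 6]) 7 3 = true := by decide +kernel

theorem step13 : stepOk (0, []) 3 2 = true := by decide +kernel

theorem step14 : stepOk (2, [15, 6, 15, 6]) 4 7 = true := by decide +kernel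

end CfsgLib.ThType.Local
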