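import Cfsg.Agent.Lib.ThType.Local.Hyp

/-!
# The steps of the relator on the five generators of U

U is generated by a, c and three conjugates of q. The steps of the relator map products of these
generators to products of these generators; five chains of such products return to their start.
-/

set_option autoImplicit false
set_option maxRecDepth 100000

namespace CfsgLib.ThType.Local

open CfsgLib.ThOut

attribute [local irreducible] qW conjT blocks sameM

/-- The five generators. -/
def uGens : List (List ℕ) :=
  [[0], [4], [4, 6, 15, 6, 4, 6, 14, 6], [10, 4, 6, 15, 6, 4, 6, 14, 6, 11],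
    [11, 4, 6, 15, 6, 4, 6, 14, 6, 10]]

/-- The product of the generators selected by the bits. -/
def uw (gens : List (List ℕ)) (m : ℕ) : List ℕ :=
  (List.range 5).flatMap fun i => if m.testBit i then gens.getD i [] else []

/-- The images under h, and under its inverse. -/
def hGens : List (List ℕ) := [[0, 4], [0]] ++ uGens.drop 2

/-- The images under the inverse of h. -/
def hiGens : List (List ℕ) := [[4], [4, 0]] ++ uGens.drop 2

/-- The steps: a model word, or 0 for h, 1 for its inverse. -/
def steps : List (ℕ × List ℕ) :=
  [(2, [0]), (0, []), (2, [6, 14, 6]), (0, []), (0, []), (2, [8]), (2, [6, 15, 6]), (2, [0]), (1, []),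
    (2, [15, 6, 15, 6])]

/-- The chains, from the end of the relator. -/
def chains : List (List ℕ) :=
  [[1, 1, 2, 2, 6, 5, 7, 6, 2, 1, 1], [2, 4, 4, 4, 5, 6, 5, 7, 3, 2, 2],
    [4, 7, 5, 5, 4, 7, 6, 5, 4, 4, 4], [8, 8, 8, 8, 20, 20, 20, 20, 8, 8, 8],
    [16, 19, 17, 17, 12, 15, 14, 13, 16, 16, 16]]

/-- The two sides of a step. -/
def stepSides : ℕ × List ℕ → ℕ → ℕ → List ℕ × List ℕ
  | (0, _), m, m' => (uw hGens m, uw uGens m')
  | (1, _), m, m' => (uw hiGens m, uw uGens m')
  | (_, w), m, m' => (w ++ uw uGens m, uw uGens m' ++ w)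

/-- A step of a chain. -/
noncomputable def stepOk (s : ℕ × List ℕ) (m m' : ℕ) : Bool :=
  okW (stepSides s m m').1 && okW (stepSides s m m').2 && sameM (stepSides s m m').1 (stepSides s m m').2

end CfsgLib.ThType.Local
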